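import Groth.Agent.CohTwo.Bounded.Embedding

/-!
# Finitely many Hilbert polynomials of pure graded modules with bounded top coefficients
-/

universe u

open MvPolynomial Filter

noncomputable section

namespace Groth.CohTwo.Bounded

open Groth.CohTwo.GenDeg

variable {k : Type u} [Field k] {n : ℕ}
variable {M : Type u} [AddCommGroup M] [Module k M] [Module (MvPolynomial (Fin n) k) M]
  [IsScalarTower k (MvPolynomial (Fin n) k) M] {V : ℕ → Submodule k M}

theorem orbit_finite (h : GenZero n V) {t : ℕ} {x : M} (hx : x ∈ V t) (j : ℕ) :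
    orbit n k x j ≤ V (t + j) := fun z hz => by
  obtain ⟨p, hp, rfl⟩ := mem_orbit.1 hz
  exact h.hom_smul_mem hx hp

/-- Dividing by the torsion keeps the growth of the orbits. -/
theorem exists_torsionFree (h : GenZero n V) (d : ℕ)
    (hpure : ∀ t, ∀ x ∈ V t, x ∉ tors n k M →
      ¬ ∃ C : ℕ, ∀ j, Module.finrank k (orbit n k x j) ≤ C * (j + 1) ^ d) :
    ∃ V' : ℕ → Submodule k (M ⧸ tors n k M), GenZero n V' ∧
      (∀ᶠ t in atTop, Module.finrank k (V' t) = Module.finrank k (V t)) ∧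
      ∀ t, ∀ x ∈ V' t, x ≠ 0 → ¬ ∃ C : ℕ, ∀ j, Module.finrank k (orbit n k x j) ≤ C * (j + 1) ^ d := by
  classical
  haveI := h.finite_piece
  let q : M →ₗ[k] M ⧸ tors n k M := (tors n k M).mkQ.restrictScalars k
  obtain ⟨B, hB⟩ := h.exists_tors_bound
  refine ⟨fun t => (V t).map q, h.quotient _ h.tors_homogeneous, eventually_atTop.2 ⟨B, fun t ht => ?_⟩, ?_⟩
  · have hk : LinearMap.ker (q.domRestrict (V t)) = ⊥ := by
      refine eq_bot_iff.2 fun x hx => ?_
      have hxT : x.1 ∈ tors n k M := (Submodule.Quotient.mk_eq_zero _).1 hx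
      exact (Submodule.mem_bot k).2 (Subtype.ext ((Submodule.mem_bot k).1 ((hB t ht).le ⟨x.2, hxT⟩)))
    have h1 := LinearMap.finrank_range_of_inj (LinearMap.ker_eq_bot.1 hk)
    rw [LinearMap.range_domRestrict] at h1
    exact h1
  rintro t _ ⟨x, hx, rfl⟩ hx0 ⟨C, hC⟩
  refine hpure t x hx (fun hxT => hx0 ((Submodule.Quotient.mk_eq_zero _).2 hxT)) ?_
  let T : ℕ → ℕ := fun j => Module.finrank k ↥(V (t + j) ⊓ (tors n k M).restrictScalars k)
  refine ⟨C + ∑ j ∈ Finset.range B, T j, fun j => ?_⟩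
  haveI : Module.Finite k (orbit n k x j) := Submodule.finiteDimensional_of_le (orbit_finite h hx j)
  have h1 := (q.domRestrict (orbit n k x j)).finrank_range_add_finrank_ker
  rw [LinearMap.range_domRestrict] at h1
  have h2 : Module.finrank k ((orbit n k x j).map q) ≤ C * (j + 1) ^ d := by
    have heq : (orbit n k x j).map q = orbit n k (q x) j := by
      refine le_antisymm ?_ ?_
      · rintro _ ⟨z, hz, rfl⟩
        obtain ⟨p, hp, rfl⟩ := mem_orbit.1 hz
        exact mem_orbit.2 ⟨p, hp, rfl⟩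
      · intro z hz
        obtain ⟨p, hp, rfl⟩ := mem_orbit.1 hz
        exact ⟨p • x, mem_orbit.2 ⟨p, hp, rfl⟩, rfl⟩
    rw [heq]
    exact hC j
  have h3 : Module.finrank k (LinearMap.ker (q.domRestrict (orbit n k x j))) ≤ ∑ j ∈ Finset.range B, T j := by
    have hle : (LinearMap.ker (q.domRestrict (orbit n k x j))).map (orbit n k x j).subtype ≤
        V (t + j) ⊓ (tors n k M).restrictScalars k := by
      rintro _ ⟨z, hz, rfl⟩
      exact ⟨orbit_finite h hx j z.2, (Submodule.Quotient.mk_eq_zero _).1 hz⟩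
    rw [← Submodule.finrank_map_subtype_eq]
    refine (Submodule.finrank_mono hle).trans ?_
    rcases Nat.lt_or_ge j B with hj | hj
    · exact Finset.single_le_sum (f := T) (fun i _ => Nat.zero_le _) (Finset.mem_range.2 hj)
    · rw [hB (t + j) (by omega), finrank_bot]
      exact Nat.zero_le _
  have h4 : 1 ≤ (j + 1) ^ d := Nat.one_le_pow _ _ (Nat.succ_pos j)
  rw [add_mul]
  nlinarith

/-- Pure graded modules generated in degree zero in a fixed number of variables, with bounded top two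
coefficients, have only finitely many Hilbert polynomials, uniformly in the infinite field. -/
theorem finite_hilbertPolys (n d R : ℕ) (B : ℚ) :
    {Q : Polynomial ℚ | ∃ (k : Type u) (_ : Field k) (_ : Infinite k) (M : Type u) (_ : AddCommGroup M)
      (_ : Module k M)
      (_ : Module (MvPolynomial (Fin n) k) M) (_ : IsScalarTower k (MvPolynomial (Fin n) k) M)
      (V : ℕ → Submodule k M), GenZero n V ∧ Q.natDegree ≤ d + 1 ∧
        (∀ᶠ t in atTop, (Module.finrank k (V t) : ℚ) = Q.eval (t : ℚ)) ∧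
        (∀ t, ∀ x ∈ V t, x ∉ tors n k M → ¬ ∃ C : ℕ, ∀ j, Module.finrank k (orbit n k x j) ≤ C * (j + 1) ^ d) ∧
        ((d + 1).factorial : ℚ) * Q.coeff (d + 1) ≤ R ∧ (d.factorial : ℚ) * Q.coeff d ≤ B}.Finite := by
  classical
  let E := (⌈B⌉).toNat + n * R * R
  let H : ℕ → ℕ → Set (ℕ → ℕ) := fun r e =>
    {h | ∃ (k : Type u) (_ : Field k) (W : Submodule k (Fin r → MvPolynomial (Fin (d + 2)) k)),
      (∀ v ∈ W, ∀ i, (v i).IsHomogeneous (e + n * r)) ∧ h = hilbW W}
  have hfin : (⋃ r ∈ Set.Iic R, ⋃ e ∈ Set.Iic E, ⋃ h ∈ H r e,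
      {Q : Polynomial ℚ | ∀ᶠ t in atTop, (h t : ℚ) = Q.eval ((n * r + t : ℕ) : ℚ)}).Finite := by
    refine (Set.finite_Iic R).biUnion fun r _ => (Set.finite_Iic E).biUnion fun e _ =>
      (finite_hilbW.{u} (d + 2) r (e + n * r)).biUnion fun h _ => Set.Subsingleton.finite ?_
    intro Q hQ Q' hQ'
    obtain ⟨t₀, ht₀⟩ := eventually_atTop.1 (hQ.and hQ')
    refine Polynomial.eq_of_infinite_eval_eq _ _ (Set.infinite_of_injective_forall_mem
      (f := fun t : ℕ => ((n * r + (t₀ + t) : ℕ) : ℚ)) (fun a b hab => by simpa using hab) fun t => ?_)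
    obtain ⟨h1, h2⟩ := ht₀ (t₀ + t) (Nat.le_add_right _ _)
    exact h1.symm.trans h2
  refine hfin.subset ?_
  rintro Q ⟨k, _, _, M, _, _, _, _, V, h, hQ, hev, hpure, hR, hB⟩
  obtain ⟨V', h', hev', hpure'⟩ := exists_torsionFree h d hpure
  have hevQ : ∀ᶠ t in atTop, (Module.finrank k (V' t) : ℚ) = Q.eval (t : ℚ) := by
    filter_upwards [hev, hev'] with t h1 h2
    rw [h2, h1]
  obtain ⟨c, B₀, hc⟩ := exists_forms (d + 2) _ V' h' Q
    (fun j hj => Polynomial.coeff_eq_zero_of_natDegree_lt (by omega)) hevQ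
  have hsf : ∀ f : MvPolynomial (Fin (d + 2)) k, f ≠ 0 → ∀ x : M ⧸ tors n k M, x ≠ 0 → subst c f • x ≠ 0 :=
    fun f hf x hx => subst_smul_ne_zero h' d c B₀ hc hpure' f hf x hx
  obtain ⟨r, e, W, hr, he, hW, hWh⟩ := exists_embedding h' d Q hQ hevQ c B₀ hc hsf
  have hrR : r ≤ R := by
    rw [← hr] at hR
    exact_mod_cast hR
  have heE : e ≤ E := by
    have h1 : (B : ℚ) ≤ ((⌈B⌉).toNat : ℚ) := (Int.le_ceil B).trans (by exact_mod_cast Int.self_le_toNat _)
    have h2 : (n : ℚ) * r * r ≤ (n : ℚ) * R * R := by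
      have : (r : ℚ) ≤ R := by exact_mod_cast hrR
      gcongr
    have h3 : (e : ℚ) ≤ (E : ℚ) := by
      simp only [E, Nat.cast_add, Nat.cast_mul]
      linarith
    exact_mod_cast h3
  refine Set.mem_biUnion (x := r) hrR (Set.mem_biUnion (x := e) heE (Set.mem_biUnion (x := hilbW W) ⟨k, inferInstance, W, hW, rfl⟩ ?_))
  obtain ⟨t₀, ht₀⟩ := eventually_atTop.1 hevQ
  refine eventually_atTop.2 ⟨t₀, fun t ht => ?_⟩
  rw [← hWh t]
  exact ht₀ (n * r + t) (by omega)

end Groth.CohTwo.Bounded
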