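import Mathlib

/-!
# Coefficient vectors of homogeneous vectors of polynomials
-/

universe u

open MvPolynomial

noncomputable section

namespace Groth.CohTwo.Bounded

/-- The monomials of degree `s`. -/
abbrev Mon (n s : ℕ) : Type := {x : Fin n → Fin (s + 1) // ∑ i, (x i : ℕ) = s}

/-- The exponent of a monomial. -/
def expo {n s : ℕ} (β : Mon n s) : Fin n →₀ ℕ := Finsupp.equivFunOnFinite.symm fun i => (β.1 i : ℕ)

theorem expo_injective {n s : ℕ} : Function.Injective (expo : Mon n s → Fin n →₀ ℕ) := fun β γ h =>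
  Subtype.ext (funext fun i => Fin.ext (congrArg (fun z => z i) h))

theorem degree_expo {n s : ℕ} (β : Mon n s) : (expo β).degree = s := by
  rw [Finsupp.degree_eq_sum]
  exact β.2

theorem exists_expo {n s : ℕ} {d : Fin n →₀ ℕ} (hd : d.degree = s) : ∃ β : Mon n s, expo β = d := by
  rw [Finsupp.degree_eq_sum] at hd
  refine ⟨⟨fun i => ⟨d i, Nat.lt_succ_of_le (hd ▸ Finset.single_le_sum (fun j _ => Nat.zero_le (d j))
    (Finset.mem_univ i))⟩, hd⟩, ?_⟩
  ext i
  rfl

variable {R : Type u} [CommRing R] {n : ℕ}

/-- The component of degree `s` as a sum of monomials. -/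
theorem homogeneousComponent_eq_sum (s : ℕ) (p : MvPolynomial (Fin n) R) :
    homogeneousComponent s p = ∑ α : Mon n s, monomial (expo α) (coeff (expo α) p) := by
  ext d
  rw [coeff_homogeneousComponent, coeff_sum]
  split
  · next hd =>
    obtain ⟨β, rfl⟩ := exists_expo hd
    rw [Finset.sum_eq_single β]
    · simp
    · intro α _ hne
      rw [coeff_monomial, if_neg fun h => hne (expo_injective h)]
    · simp
  · next hd =>
    refine (Finset.sum_eq_zero fun α _ => ?_).symm
    rw [coeff_monomial, if_neg fun h => hd ((congrArg Finsupp.degree h).symm.trans (degree_expo α))]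

theorem coeff_mul_of_isHomogeneous {D s : ℕ} {w : MvPolynomial (Fin n) R} (hw : w.IsHomogeneous D)
    (p : MvPolynomial (Fin n) R) (β : Mon n (s + D)) :
    coeff (expo β) (p * w) = ∑ α : Mon n s, coeff (expo α) p * coeff (expo β) (monomial (expo α) 1 * w) := by
  have h1 : coeff (expo β) (p * w) = coeff (expo β) (homogeneousComponent s p * w) := by
    rw [coeff_mul, coeff_mul]
    refine Finset.sum_congr rfl fun ab hab => ?_
    by_cases hb : coeff ab.2 w = 0
    · rw [hb, mul_zero, mul_zero]
    rw [coeff_homogeneousComponent, if_pos]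
    have hd : ab.2.degree = D := by rw [Finsupp.degree_eq_weight_one]; exact hw hb
    have h := congrArg Finsupp.degree (Finset.HasAntidiagonal.mem_antidiagonal.1 hab)
    rw [map_add, degree_expo, hd] at h
    omega
  rw [h1, homogeneousComponent_eq_sum, Finset.sum_mul, coeff_sum]
  refine Finset.sum_congr rfl fun α _ => ?_
  rw [← coeff_C_mul, ← mul_assoc, C_mul_monomial, mul_one]

/-- The coefficient vector of degree `s`. -/
def vec (r s : ℕ) : (Fin r → MvPolynomial (Fin n) R) →ₗ[R] (Fin r × Mon n s → R) where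
  toFun v x := coeff (expo x.2) (v x.1)
  map_add' v v' := funext fun x => coeff_add _ _ _
  map_smul' c v := funext fun x => coeff_smul _ _ _

@[simp] theorem vec_apply {r s : ℕ} (v : Fin r → MvPolynomial (Fin n) R) (x : Fin r × Mon n s) :
    vec r s v x = coeff (expo x.2) (v x.1) := rfl

/-- The basic vector of a monomial. -/
def unitVec {r s : ℕ} (x : Fin r × Mon n s) : Fin r → MvPolynomial (Fin n) R :=
  Pi.single x.1 (monomial (expo x.2) 1)

theorem sum_unitVec {r s : ℕ} {v : Fin r → MvPolynomial (Fin n) R} (hv : ∀ i, (v i).IsHomogeneous s) :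
    ∑ x, vec r s v x • unitVec x = v := by
  funext i
  rw [Finset.sum_apply, Fintype.sum_prod_type, Finset.sum_eq_single i]
  · refine Eq.trans ?_ (homogeneousComponent_of_mem (m := s) (n := s) (hv i) |>.trans (if_pos rfl))
    rw [homogeneousComponent_eq_sum]
    exact Finset.sum_congr rfl fun β _ => by simp [unitVec, smul_monomial]
  · intro j _ hj
    exact Finset.sum_eq_zero fun β _ => by simp [unitVec, Pi.single_eq_of_ne' hj]
  · simp

theorem vec_eq_zero_iff {r s : ℕ} {v : Fin r → MvPolynomial (Fin n) R} (hv : ∀ i, (v i).IsHomogeneous s) :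
    vec r s v = 0 ↔ v = 0 := by
  refine ⟨fun h => ?_, fun h => by rw [h, map_zero]⟩
  rw [← sum_unitVec hv, h]
  simp

end Groth.CohTwo.Bounded
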