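import Groth.Agent.CohTwo.Bounded.GradedGens
import Groth.Agent.CubicGeom.PlaneBezout

/-!
# A common denominator of least degree
-/

universe u

open MvPolynomial

noncomputable section

namespace Groth.CohTwo.Bounded

open Groth.CohTwo.GenDeg

variable {k : Type u} [Field k] {n m : ℕ}

theorem homogeneous_succ_le (u : ℕ) : homogeneousSubmodule (Fin m) k (u + 1) ≤
    ⨆ i, (homogeneousSubmodule (Fin m) k u).map (LinearMap.mulLeft k (X i : MvPolynomial (Fin m) k)) := by
  intro q hq
  rw [q.as_sum]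
  refine Submodule.sum_mem _ fun a ha => ?_
  have hd : a.degree = u + 1 := by
    rw [Finsupp.degree_eq_weight_one]
    exact hq (mem_support_iff.1 ha)
  obtain ⟨i, hi⟩ : ∃ i, a i ≠ 0 := by
    by_contra hcon
    push Not at hcon
    rw [show a = 0 from Finsupp.ext hcon, map_zero] at hd
    omega
  have hle : Finsupp.single i 1 ≤ a := Finsupp.single_le_iff.2 (Nat.one_le_iff_ne_zero.2 hi)
  refine Submodule.mem_iSup_of_mem i ⟨monomial (a - Finsupp.single i 1) (coeff a q),
    isHomogeneous_monomial _ ?_, ?_⟩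
  · have h1 := congrArg Finsupp.degree (tsub_add_cancel_of_le hle)
    rw [map_add, Finsupp.degree_single, hd] at h1
    omega
  · rw [LinearMap.mulLeft_apply, X, monomial_mul, one_mul, add_comm, tsub_add_cancel_of_le hle]

theorem choose_add_mul_le (d e u : ℕ) :
    (u + (d + 1)).choose (d + 1) + e * (u + d).choose d ≤ (u + e + (d + 1)).choose (d + 1) := by
  induction e with
  | zero => simp
  | succ e ih =>
    rw [show u + (e + 1) + (d + 1) = (u + e + (d + 1)) + 1 by omega, Nat.choose_succ_succ', Nat.succ_mul]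
    have := Nat.choose_le_choose d (show u + d ≤ u + e + (d + 1) by omega)
    omega

theorem quot_isHomogeneous {s q p : MvPolynomial (Fin m) k} {e t : ℕ} (hs : s.IsHomogeneous e)
    (hp : p.IsHomogeneous t) (hp0 : p ≠ 0) (hpq : s * q = p) : e ≤ t ∧ q.IsHomogeneous (t - e) := by
  obtain ⟨i, j, hij, hsi, hqj⟩ := Groth.CubicGeom.exists_isHomogeneous_of_mul (hpq ▸ hp) (hpq ▸ hp0)
  have hie : i = e := hsi.inj_right hs (left_ne_zero_of_mul (hpq ▸ hp0))
  subst hie
  exact ⟨by omega, by rwa [← hij, Nat.add_sub_cancel_left]⟩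

theorem degree_pos_of_prime {p : MvPolynomial (Fin m) k} {i : ℕ} (hp : Prime p) (hi : p.IsHomogeneous i) :
    0 < i := by
  by_contra h0
  obtain rfl : i = 0 := by omega
  refine hp.not_unit ?_
  rw [← (mem_homogeneousSubmodule 0 p).trans (Iff.rfl), homogeneousSubmodule_zero, Submodule.mem_one] at hi
  obtain ⟨c, rfl⟩ := hi
  have hc : c ≠ 0 := fun h => hp.ne_zero (by rw [h, map_zero])
  exact (IsUnit.mk0 c hc).map _

/-- A linear form outside finitely many primes. -/
theorem exists_lin_not_dvd [Infinite k] (d : ℕ) {ι : Type*} [Finite ι] (p : ι → MvPolynomial (Fin (d + 2)) k)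
    (hp : ∀ i, Prime (p i)) : ∃ c : Fin (d + 2) → k, ∀ i, ¬ p i ∣ lin c := by
  classical
  let L := Fintype.linearCombination k (fun l : Fin (d + 2) => (X l : MvPolynomial (Fin (d + 2)) k))
  have hL : ∀ c, L c = lin c := fun c => rfl
  obtain ⟨c, hc⟩ := Submodule.exists_forall_notMem_of_forall_ne_top
    (fun i => ((Ideal.span {p i}).restrictScalars k).comap L) fun i htop => by
      have hmem : ∀ l : Fin (d + 2), p i ∣ (X l : MvPolynomial (Fin (d + 2)) k) := fun l => by
        have := (htop ▸ Submodule.mem_top : Pi.single l (1 : k) ∈ ((Ideal.span {p i}).restrictScalars k).comap L)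
        rw [Submodule.mem_comap, Fintype.linearCombination_apply_single, one_smul] at this
        exact Ideal.mem_span_singleton.1 this
      have h0 := (hp i).associated_of_dvd X_prime (hmem 0)
      have := h0.symm.dvd.trans (hmem 1)
      rw [X_dvd_X] at this
      exact absurd this (by simp)
  exact ⟨c, fun i hi => hc i (Ideal.mem_span_singleton.2 (by rw [hL]; exact hi))⟩

theorem dvd_of_forall_prime {R : Type u} [CommRing R] [IsDomain R] [UniqueFactorizationMonoid R] {r : ℕ}
    (s0 : R) (hs0 : s0 ≠ 0) (F : Fin r → R) (hF : ∀ p, Prime p → p ∣ s0 → ∃ i, ¬ p ∣ F i)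
    (s : R) (a : Fin r → R) (h : ∀ i, s * F i = s0 * a i) : s0 ∣ s := by
  have key : ∀ q : R, q ∣ s0 → q ∣ s := by
    intro q
    induction q using UniqueFactorizationMonoid.induction_on_prime with
    | h₁ => exact fun h0 => absurd (zero_dvd_iff.1 h0) hs0
    | h₂ x hx => exact fun _ => hx.dvd
    | h₃ q p hq hp ih =>
      intro hpq
      obtain ⟨u, hu⟩ := ih (dvd_trans (dvd_mul_left q p) hpq)
      obtain ⟨i, hi⟩ := hF p hp (dvd_trans (dvd_mul_right p q) hpq)
      obtain ⟨w, hw⟩ := hpq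
      have h1 : q * (u * F i) = q * (p * (w * a i)) := by
        rw [← mul_assoc, ← hu, h i, hw]; ring
      rcases hp.dvd_or_dvd ⟨_, mul_left_cancel₀ hq h1⟩ with ⟨v, hv⟩ | hd
      · exact ⟨v, by rw [hu, hv]; ring⟩
      · exact absurd hd hi
  exact key s0 dvd_rfl

variable {M : Type u} [AddCommGroup M] [Module k M] [Module (MvPolynomial (Fin n) k) M]
  [IsScalarTower k (MvPolynomial (Fin n) k) M] {V : ℕ → Submodule k M}

/-- Relations between homogeneous elements may be taken homogeneous. -/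
theorem relation_component (h : GenZero n V) (c : Fin m → Fin n → k) {r : ℕ} (g : Fin r → M) (δg : Fin r → ℕ)
    (hg : ∀ i, g i ∈ V (δg i)) {γ : M} {δ : ℕ} (hγ : γ ∈ V δ) {s : MvPolynomial (Fin m) k}
    {f : Fin r → MvPolynomial (Fin m) k} (hsf : subst c s • γ = ∑ i, subst c (f i) • g i) (a : ℕ) :
    subst c (homogeneousComponent a s) • γ = ∑ i, subst c
      (if δg i ≤ a + δ then homogeneousComponent (a + δ - δg i) (f i) else 0) • g i := by
  obtain ⟨π, -, hπ, -⟩ := h.exists_proj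
  have h1 := congrArg (π (a + δ)) hsf
  rw [proj_subst_smul h c π hπ hγ, if_pos (Nat.le_add_left δ a), Nat.add_sub_cancel, map_sum] at h1
  rw [h1]
  refine Finset.sum_congr rfl fun i _ => ?_
  rw [proj_subst_smul h c π hπ (hg i)]
  split
  · rfl
  · rw [map_zero, zero_smul]

/-- A homogeneous common denominator of least degree. -/
theorem exists_denominator (h : GenZero n V) (c : Fin m → Fin n → k)
    (hsf : ∀ f : MvPolynomial (Fin m) k, f ≠ 0 → ∀ x : M, x ≠ 0 → subst c f • x ≠ 0)
    (Γ : Finset M) (δ : M → ℕ) (hδ : ∀ γ ∈ Γ, γ ∈ V (δ γ)) {r : ℕ} (g : Fin r → M) (hg : ∀ i, g i ∈ Γ)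
    (hden : ∀ γ ∈ Γ, ∃ s : MvPolynomial (Fin m) k, s ≠ 0 ∧ ∃ f : Fin r → MvPolynomial (Fin m) k,
      subst c s • γ = ∑ i, subst c (f i) • g i) :
    ∃ (e : ℕ) (s0 : MvPolynomial (Fin m) k), s0.IsHomogeneous e ∧ s0 ≠ 0 ∧
      ∃ F : M → Fin r → MvPolynomial (Fin m) k,
        (∀ γ ∈ Γ, subst c s0 • γ = ∑ i, subst c (F γ i) • g i) ∧
        (∀ γ ∈ Γ, ∀ i, (F γ i).IsHomogeneous (e + δ γ - δ (g i))) ∧
        (∀ γ ∈ Γ, ∀ i, e + δ γ < δ (g i) → F γ i = 0) ∧
        ∀ p : MvPolynomial (Fin m) k, Prime p → p ∣ s0 → ∃ γ ∈ Γ, ∃ i, ¬ p ∣ F γ i := by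
  classical
  let A : ℕ → Prop := fun a => ∃ s : MvPolynomial (Fin m) k, s.IsHomogeneous a ∧ s ≠ 0 ∧
    ∀ γ ∈ Γ, ∃ f : Fin r → MvPolynomial (Fin m) k, subst c s • γ = ∑ i, subst c (f i) • g i
  have hA : ∃ a, A a := by
    choose! s hs0 f hf using hden
    have hcomp : ∀ γ ∈ Γ, ∃ a, homogeneousComponent a (s γ) ≠ 0 := fun γ hγ => by
      by_contra hcon
      push Not at hcon
      exact hs0 γ hγ (by rw [← sum_homogeneousComponent (s γ), Finset.sum_eq_zero fun a _ => hcon a])
    choose! a ha using hcomp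
    refine ⟨∑ γ ∈ Γ, a γ, ∏ γ ∈ Γ, homogeneousComponent (a γ) (s γ),
      IsHomogeneous.prod _ _ _ fun γ _ => homogeneousComponent_isHomogeneous _ _,
      Finset.prod_ne_zero_iff.2 ha, fun γ hγ => ?_⟩
    rw [← Finset.prod_erase_mul Γ _ hγ, map_mul, mul_smul,
      relation_component h c g (fun i => δ (g i)) (fun i => hδ _ (hg i)) (hδ γ hγ) (hf γ hγ) (a γ),
      Finset.smul_sum]
    exact ⟨_, Finset.sum_congr rfl fun i _ => by rw [smul_smul, ← map_mul]⟩
  obtain ⟨s0, hs0h, hs00, hs0f⟩ := Nat.find_spec hA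
  choose! f hf using hs0f
  set e := Nat.find hA
  let F : M → Fin r → MvPolynomial (Fin m) k := fun γ i =>
    if δ (g i) ≤ e + δ γ then homogeneousComponent (e + δ γ - δ (g i)) (f γ i) else 0
  have hF : ∀ γ ∈ Γ, subst c s0 • γ = ∑ i, subst c (F γ i) • g i := fun γ hγ => by
    have := relation_component h c g (fun i => δ (g i)) (fun i => hδ _ (hg i)) (hδ γ hγ) (hf γ hγ) e
    rwa [homogeneousComponent_of_mem hs0h, if_pos rfl] at this
  refine ⟨e, s0, hs0h, hs00, F, hF, fun γ _ i => ?_, fun γ _ i hlt => if_neg (by omega), fun p hp hps => ?_⟩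
  · simp only [F]
    split
    · exact homogeneousComponent_isHomogeneous _ _
    · exact isHomogeneous_zero _ _ _
  · by_contra hcon
    push Not at hcon
    obtain ⟨q, rfl⟩ := hps
    obtain ⟨i, j, hij, hpi, hqj⟩ := Groth.CubicGeom.exists_isHomogeneous_of_mul hs0h hs00
    have hjA : A j := by
      refine ⟨q, hqj, right_ne_zero_of_mul hs00, fun γ hγ => ?_⟩
      choose w hw using hcon γ hγ
      refine ⟨w, ?_⟩
      by_contra hne
      refine hsf p hp.ne_zero _ (sub_ne_zero.2 hne) ?_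
      rw [smul_sub, smul_smul, ← map_mul, hF γ hγ, Finset.smul_sum, sub_eq_zero]
      exact Finset.sum_congr rfl fun l _ => by rw [hw l, map_mul, mul_smul]
    have hle := Nat.find_min' hA hjA
    have := degree_pos_of_prime hp hpi
    omega

end Groth.CohTwo.Bounded
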