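import Groth.Agent.CohTwo.Degeneracy.Charts

/-!
# Ranks of specialised matrices
-/

universe u

open Matrix

namespace Groth.CohTwo.Bounded

/-- Specialising cannot raise the rank above the generic one. -/
theorem rank_map_le {A k K : Type u} [CommRing A] [Field k] [Field K] (ev : A →+* k) (g : A →+* K)
    (hg : Function.Injective g) {p q : Type} [Fintype p] [Fintype q] (G : Matrix q p A) :
    (G.map ev).rank ≤ (G.map g).rank := by
  classical
  let M := G.map ev
  -- linearly independent columns
  obtain ⟨b, hb, hbspan, hbli⟩ := exists_linearIndependent k (Set.range M.col)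
  haveI : Fintype b := Set.Finite.fintype ((Set.finite_range M.col).subset hb)
  have hr : M.rank = Fintype.card b := by
    rw [Matrix.rank_eq_finrank_span_cols, ← hbspan]
    exact finrank_span_set_eq_card hbli |>.trans (by rw [Set.toFinset_card])
  let e := Fintype.equivFin q
  choose c hc using fun i : Fin (Fintype.card b) => hb ((Fintype.equivFin b).symm i).2
  let N : Matrix q (Fin (Fintype.card b)) k := M.submatrix id c
  have hcol : N.col = fun i => (((Fintype.equivFin b).symm i : b) : q → k) := funext fun i => hc i
  have hinj : Function.Injective N.mulVec := by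
    rw [Matrix.mulVec_injective_iff, hcol]
    exact hbli.comp _ (Fintype.equivFin b).symm.injective
  let T : Matrix (Fin (Fintype.card b)) (Fin (Fintype.card q)) k := (N.submatrix e.symm id).transpose
  have hspan : Submodule.span k (Set.range T.col) = ⊤ := by
    rw [← Matrix.range_mulVecLin]
    refine Submodule.eq_top_of_finrank_eq ?_
    change T.rank = _
    rw [Matrix.rank_transpose]
    refine LinearMap.finrank_range_of_inj (f := (N.submatrix e.symm id).mulVecLin) fun x y h => hinj ?_
    funext s
    have h' : (N.submatrix e.symm id *ᵥ x) (e s) = (N.submatrix e.symm id *ᵥ y) (e s) := congrFun h (e s)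
    simp [Matrix.mulVec, dotProduct] at h' ⊢
    exact h'
  obtain ⟨τ, hτ⟩ := Groth.CohTwo.Degeneracy.exists_submatrix_det_notMem T hspan ⊥
  rw [Ideal.mem_bot] at hτ
  let S := G.submatrix (e.symm ∘ τ) c
  have hS : ev S.det ≠ 0 := by
    rw [RingHom.map_det]
    refine fun h => hτ (Eq.trans ?_ h)
    rw [← Matrix.det_transpose (ev.mapMatrix S)]
    congr 1
  have hSg : (S.map g).det ≠ 0 := by
    intro h
    refine hS ?_
    rw [show S.det = 0 from hg ((RingHom.map_det g S).trans (h.trans (map_zero g).symm)), map_zero]
  rw [hr]
  calc Fintype.card b = (S.map g).rank := by rw [Matrix.rank_of_det_ne_zero hSg, Fintype.card_fin]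
    _ ≤ (G.map g).rank := by
        rw [show S.map g = (G.map g).submatrix (e.symm ∘ τ) c from rfl]
        exact Matrix.rank_submatrix_le _ _ _

/-- A partial splitting of a cokernel determines the rank wherever the scalar is invertible. -/
theorem rank_add_rank {F : Type u} [Field F] {p q o : Type} [Fintype p] [Fintype q] [Fintype o] [DecidableEq q]
    (G : Matrix q p F) (P : Matrix o q F) (L : Matrix q o F) (H : Matrix p q F) (c : F) (hc : c ≠ 0)
    (hPG : P * G = 0) (hLP : L * P = c • (1 : Matrix q q F) + G * H) :
    P.rank + G.rank = Fintype.card q := by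
  have h1 : LinearMap.range G.mulVecLin ≤ LinearMap.ker P.mulVecLin := by
    rintro _ ⟨x, rfl⟩
    simp [Matrix.mulVecLin_apply, Matrix.mulVec_mulVec, hPG]
  have h2 : LinearMap.ker P.mulVecLin ≤ LinearMap.range G.mulVecLin := by
    intro x hx
    have hx' : P *ᵥ x = 0 := hx
    have h := congrArg (· *ᵥ x) hLP
    simp only [← Matrix.mulVec_mulVec, hx', Matrix.mulVec_zero, Matrix.add_mulVec, Matrix.smul_mulVec,
      Matrix.one_mulVec] at h
    refine ⟨-c⁻¹ • (H *ᵥ x), ?_⟩
    rw [Matrix.mulVecLin_apply, Matrix.mulVec_smul, eq_neg_of_add_eq_zero_right h.symm, neg_smul, smul_neg,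
      neg_neg, smul_smul, inv_mul_cancel₀ hc, one_smul]
  have h3 := P.mulVecLin.finrank_range_add_finrank_ker
  rw [le_antisymm h2 h1, Module.finrank_pi] at h3
  exact h3

end Groth.CohTwo.Bounded
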