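import Groth.Agent.CohTwo.Bounded.Coeff
import Groth.Agent.CohTwo.Bounded.RankSpecial
import Groth.Agent.GenericFree.Presentation

/-!
# Finitely many Hilbert functions for graded submodules of a free module generated in a fixed degree
-/

universe u

open MvPolynomial Matrix

noncomputable section

namespace Groth.CohTwo.Bounded

variable {R : Type u} [CommRing R] {n r w : ℕ}

/-- The matrix of multiplication by forms of degree `s` on given generators of degree `D`. -/
def mulMat (D s : ℕ) (g : Fin w → Fin r → MvPolynomial (Fin n) R) :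
    Matrix (Fin r × Mon n (s + D)) (Fin w × Mon n s) R :=
  Matrix.of fun x c => coeff (expo x.2) (monomial (expo c.2) 1 * g c.1 x.1)

theorem mulMat_map {R' : Type u} [CommRing R'] (φ : R →+* R') (D s : ℕ)
    (g : Fin w → Fin r → MvPolynomial (Fin n) R) :
    (mulMat D s g).map φ = mulMat D s fun l i => MvPolynomial.map φ (g l i) := by
  ext x c
  simp only [mulMat, Matrix.map_apply, Matrix.of_apply, ← coeff_map, map_mul, map_monomial, map_one]

theorem vec_combination {D : ℕ} (g : Fin w → Fin r → MvPolynomial (Fin n) R)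
    (hg : ∀ l i, (g l i).IsHomogeneous D) (s : ℕ) (p : Fin w → MvPolynomial (Fin n) R) :
    vec r (s + D) (∑ l, p l • g l) = mulMat D s g *ᵥ fun c => coeff (expo c.2) (p c.1) := by
  funext x
  rw [vec_apply, Finset.sum_apply, coeff_sum, Matrix.mulVec, dotProduct, Fintype.sum_prod_type]
  refine Finset.sum_congr rfl fun l _ => ?_
  rw [Pi.smul_apply, smul_eq_mul, coeff_mul_of_isHomogeneous (hg l x.1)]
  exact Finset.sum_congr rfl fun α _ => mul_comm _ _

set_option maxHeartbeats 800000 in
/-- Over a domain, outside one hypersurface the Hilbert function of the specialised generators is constant. -/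
theorem exists_generic {A : Type u} [CommRing A] [IsDomain A] {D : ℕ}
    (g : Fin w → Fin r → MvPolynomial (Fin n) A) (hg : ∀ l i, (g l i).IsHomogeneous D) :
    ∃ f : A, f ≠ 0 ∧ ∃ h : ℕ → ℕ, ∀ (k : Type u) [Field k] (ev : A →+* k), ev f ≠ 0 →
      ∀ s, (mulMat D s fun l i => MvPolynomial.map ev (g l i)).rank = h s := by
  classical
  let Pol := MvPolynomial (Fin n) A
  let U : Submodule Pol (Fin r → Pol) := Submodule.span Pol (Set.range g)
  haveI : Module.Finite Pol ((Fin r → Pol) ⧸ U) := Module.Finite.quotient Pol U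
  obtain ⟨f, hf, ι, φ, hφ, hsat⟩ := Groth.GenericFree.gf_of_finiteType (R := A) Pol ((Fin r → Pol) ⧸ U)
  let K := FractionRing A
  let gK := algebraMap A K
  refine ⟨f, hf, fun s => ((mulMat D s g).map gK).rank, fun k _ ev hev s => ?_⟩
  rw [← mulMat_map]
  -- the data of a partial splitting in degree s
  let Q := Fin r × Mon n (s + D)
  let mk : (Fin r → Pol) →ₗ[A] (Fin r → Pol) ⧸ U := U.mkQ.restrictScalars A
  choose e z₀ hz₀ using fun x : Q => hsat (mk (unitVec x))
  let N := Finset.univ.sup e
  have hz : ∀ x : Q, ∃ z, φ z = f ^ N • mk (unitVec x) := fun x => ⟨f ^ (N - e x) • z₀ x, by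
    rw [map_smul, hz₀, smul_smul, ← pow_add, Nat.sub_add_cancel (Finset.le_sup (f := e) (Finset.mem_univ x))]⟩
  choose z hz using hz
  let supp := Finset.univ.biUnion fun x => (z x).support
  let o := supp.card
  let idx : Fin o → ι := fun j => (supp.equivFin.symm j).1
  choose y hy using fun j : Fin o => U.mkQ_surjective (φ (Finsupp.single (idx j) 1))
  have hdec : ∀ x, z x = ∑ j, z x (idx j) • Finsupp.single (idx j) 1 := by
    intro x
    have h1 : ∑ j, z x (idx j) • Finsupp.single (idx j) 1 = ∑ i ∈ supp, Finsupp.single i (z x i) := by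
      rw [← Finset.sum_coe_sort supp]
      exact Fintype.sum_equiv supp.equivFin.symm _ _ fun j => Finsupp.smul_single_one _ _
    rw [h1]
    conv_lhs => rw [← Finsupp.sum_single (z x)]
    exact Finsupp.sum_of_support_subset _
      (fun i hi => Finset.mem_biUnion.2 ⟨x, Finset.mem_univ _, hi⟩) _ fun i _ => Finsupp.single_zero i
  let G := mulMat D s g
  let P : Matrix (Fin o) Q A := Matrix.of fun j x => z x (idx j)
  let L : Matrix Q (Fin o) A := Matrix.of fun x j => vec r (s + D) (y j) x
  have hPG : P * G = 0 := by
    ext j c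
    have h1 : φ (∑ x, G x c • z x) = 0 := by
      simp only [map_sum, map_smul, hz, smul_comm _ (f ^ N)]
      rw [← Finset.smul_sum]
      have h2 : ∑ x, G x c • unitVec x = monomial (expo c.2) (1 : A) • g c.1 := by
        refine Eq.trans (Finset.sum_congr rfl fun x _ => ?_) (sum_unitVec (s := s + D) fun i => ?_)
        · rfl
        · exact (isHomogeneous_monomial 1 (degree_expo c.2)).mul (hg c.1 i)
      rw [show ∑ x, G x c • mk (unitVec x) = mk (∑ x, G x c • unitVec x) by simp [map_sum, map_smul], h2]
      refine smul_eq_zero_of_right _ ((Submodule.Quotient.mk_eq_zero U).2 ?_)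
      exact Submodule.smul_mem _ _ (Submodule.subset_span ⟨c.1, rfl⟩)
    have h3 := DFunLike.congr_fun (hφ (h1.trans (map_zero φ).symm)) (idx j)
    simp only [Finsupp.finsetSum_apply, Finsupp.smul_apply, Finsupp.zero_apply, smul_eq_mul] at h3
    rw [Matrix.mul_apply, Matrix.zero_apply, ← h3]
    exact Finset.sum_congr rfl fun x _ => mul_comm _ _
  have hH : ∀ x : Q, ∃ hx : Fin w × Mon n s → A,
      (fun x' => (L * P) x' x) = f ^ N • (Pi.single x 1 : Q → A) + G *ᵥ hx := by
    intro x
    have hu : ∑ j, z x (idx j) • y j - f ^ N • unitVec x ∈ U := by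
      rw [← Submodule.Quotient.mk_eq_zero U]
      change mk _ = 0
      have hy' : ∀ j, mk (y j) = φ (Finsupp.single (idx j) 1) := hy
      rw [map_sub, map_smul, map_sum, ← hz]
      simp only [map_smul, hy']
      rw [sub_eq_zero]
      conv_rhs => rw [hdec x, map_sum]
      simp only [map_smul]
    obtain ⟨p, hp⟩ := (Submodule.mem_span_range_iff_exists_fun Pol).1 hu
    refine ⟨fun c => coeff (expo c.2) (p c.1), ?_⟩
    rw [← vec_combination g hg, hp, map_sub, map_smul, map_sum]
    simp only [map_smul]
    have h4 : vec r (s + D) (unitVec x : Fin r → Pol) = Pi.single x 1 := by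
      funext x'
      rw [vec_apply, unitVec]
      rcases eq_or_ne x' x with rfl | hne
      · simp
      rw [Pi.single_eq_of_ne hne]
      rcases eq_or_ne x'.1 x.1 with h1 | h1
      · rw [h1, Pi.single_eq_same, coeff_monomial, if_neg]
        exact fun h => hne (Prod.ext h1 (expo_injective h).symm)
      · rw [Pi.single_eq_of_ne h1, coeff_zero]
    rw [h4]
    funext x'
    simp only [Matrix.mul_apply, P, L, Matrix.of_apply, Pi.add_apply, Pi.sub_apply, Pi.smul_apply,
      Finset.sum_apply, smul_eq_mul]
    rw [add_sub_cancel]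
    exact Finset.sum_congr rfl fun j _ => mul_comm _ _
  choose hcol hH using hH
  let H : Matrix (Fin w × Mon n s) Q A := Matrix.of fun c x => hcol x c
  have hLP : L * P = f ^ N • (1 : Matrix Q Q A) + G * H := by
    ext x' x
    have h := congrFun (hH x) x'
    simp only [Pi.add_apply, Pi.smul_apply, Pi.single_apply, Matrix.mulVec, dotProduct] at h
    rw [h, Matrix.add_apply, Matrix.smul_apply, Matrix.one_apply]
    rfl
  -- the two counts
  have count : ∀ {F : Type u} [Field F] (ψ : A →+* F), ψ f ≠ 0 →
      (P.map ψ).rank + (G.map ψ).rank = Fintype.card Q := by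
    intro F _ ψ hψ
    refine rank_add_rank _ _ (L.map ψ) (H.map ψ) (ψ (f ^ N)) (by rw [map_pow]; exact pow_ne_zero _ hψ) ?_ ?_
    · rw [← Matrix.map_mul, hPG, Matrix.map_zero _ (map_zero ψ)]
    · rw [← Matrix.map_mul, hLP, ← Matrix.map_mul (f := ψ)]
      ext x' x
      rw [Matrix.map_apply, Matrix.add_apply, Matrix.add_apply, Matrix.smul_apply, Matrix.smul_apply,
        Matrix.one_apply, Matrix.one_apply, Matrix.map_apply, map_add]
      split <;> simp
  have hgK : gK f ≠ 0 := fun h => hf (IsFractionRing.injective A K (h.trans (map_zero _).symm))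
  have h1 := count ev hev
  have h2 := count gK hgK
  have h3 := rank_map_le ev gK (IsFractionRing.injective A K) G
  have h4 := rank_map_le ev gK (IsFractionRing.injective A K) P
  change (G.map ev).rank = (G.map gK).rank
  omega

/-- The Hilbert function of the submodule generated by a space of vectors of polynomials. -/
def hilbW {k : Type u} [Field k] {n r : ℕ} (W : Submodule k (Fin r → MvPolynomial (Fin n) k)) (s : ℕ) : ℕ :=
  Module.finrank k (Submodule.span k
    {x | ∃ p ∈ homogeneousSubmodule (Fin n) k s, ∃ v ∈ W, x = p • v})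

variable {k : Type u} [Field k]

theorem hilbW_span {D : ℕ} (g : Fin w → Fin r → MvPolynomial (Fin n) k)
    (hg : ∀ l i, (g l i).IsHomogeneous D) (s : ℕ) :
    hilbW (Submodule.span k (Set.range g)) s = (mulMat D s g).rank := by
  classical
  let Φ := Fintype.linearCombination k fun c : Fin w × Mon n s => monomial (expo c.2) (1 : k) • g c.1
  have hrange : LinearMap.range Φ = Submodule.span k
      {x | ∃ p ∈ homogeneousSubmodule (Fin n) k s, ∃ v ∈ Submodule.span k (Set.range g), x = p • v} := by
    rw [Fintype.range_linearCombination]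
    refine le_antisymm (Submodule.span_mono ?_) (Submodule.span_le.2 ?_)
    · rintro _ ⟨c, rfl⟩
      exact ⟨_, isHomogeneous_monomial 1 (degree_expo c.2), _, Submodule.subset_span ⟨c.1, rfl⟩, rfl⟩
    · rintro _ ⟨p, hp, v, hv, rfl⟩
      induction hv using Submodule.span_induction with
      | mem v hv =>
        obtain ⟨l, rfl⟩ := hv
        rw [show p = ∑ α : Mon n s, monomial (expo α) (coeff (expo α) p) by
          rw [← homogeneousComponent_eq_sum, homogeneousComponent_of_mem (n := s) hp, if_pos rfl],
          Finset.sum_smul]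
        refine Submodule.sum_mem _ fun α _ => ?_
        rw [show monomial (expo α) (coeff (expo α) p) = coeff (expo α) p • monomial (expo α) (1 : k) by
          rw [smul_monomial, smul_eq_mul, mul_one], smul_assoc]
        exact Submodule.smul_mem _ _ (Submodule.subset_span ⟨(l, α), rfl⟩)
      | zero => rw [smul_zero]; exact Submodule.zero_mem _
      | add a b _ _ ha hb => rw [smul_add]; exact Submodule.add_mem _ ha hb
      | smul c a _ ha => rw [smul_comm]; exact Submodule.smul_mem _ _ ha
  have hhom : ∀ c i, (Φ c i).IsHomogeneous (s + D) := by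
    intro c i
    rw [Fintype.linearCombination_apply, Finset.sum_apply]
    refine IsHomogeneous.sum _ _ _ fun x _ => ?_
    rw [Pi.smul_apply, smul_eq_C_mul, Pi.smul_apply, smul_eq_mul]
    exact ((isHomogeneous_monomial 1 (degree_expo x.2)).mul (hg x.1 i)).C_mul _
  have hcomp : (vec r (s + D)).comp Φ = (mulMat D s g).mulVecLin := by
    refine LinearMap.ext fun c => funext fun x => ?_
    simp only [LinearMap.comp_apply, Φ, Fintype.linearCombination_apply, map_sum, map_smul, Finset.sum_apply,
      Pi.smul_apply, vec_apply, Matrix.mulVecLin_apply, Matrix.mulVec, dotProduct, mulMat, Matrix.of_apply,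
      smul_eq_mul]
    rw [coeff_sum]
    exact Finset.sum_congr rfl fun c' _ => by rw [coeff_smul, smul_eq_mul, mul_comm]
  have hker : LinearMap.ker ((vec r (s + D)).comp Φ) = LinearMap.ker Φ := by
    ext c
    rw [LinearMap.mem_ker, LinearMap.mem_ker, LinearMap.comp_apply, vec_eq_zero_iff (hhom c)]
  have h1 := Φ.finrank_range_add_finrank_ker
  have h2 := ((vec r (s + D)).comp Φ).finrank_range_add_finrank_ker
  rw [hker] at h2
  unfold hilbW
  rw [← hrange, Matrix.rank, ← hcomp]
  omega

/-- Finiteness is uniform in the field. -/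
theorem finite_rank_mulMat (n r w D : ℕ) :
    {h : ℕ → ℕ | ∃ (k : Type u) (_ : Field k) (g : Fin w → Fin r → MvPolynomial (Fin n) k),
      (∀ l i, (g l i).IsHomogeneous D) ∧ h = fun s => (mulMat D s g).rank}.Finite := by
  classical
  let Z := ULift.{u} (Fin w × Fin r × Mon n D)
  let A := MvPolynomial Z (ULift.{u} ℤ)
  haveI : IsDomain (ULift.{u} ℤ) := ULift.ringEquiv.toMulEquiv.isDomain ℤ
  haveI : IsNoetherianRing (ULift.{u} ℤ) := isNoetherianRing_of_ringEquiv ℤ ULift.ringEquiv.symm
  let gA : Fin w → Fin r → MvPolynomial (Fin n) A := fun l i =>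
    ∑ β, monomial (expo β) (X (ULift.up (l, i, β)) : A)
  have hgA : ∀ l i, (gA l i).IsHomogeneous D := fun l i =>
    IsHomogeneous.sum _ _ _ fun β _ => isHomogeneous_monomial _ (degree_expo β)
  let T := fun I : Ideal A => {h : ℕ → ℕ | ∃ (k : Type u) (_ : Field k) (ev : A →+* k), I ≤ RingHom.ker ev ∧
    h = fun s => (mulMat D s fun l i => MvPolynomial.map ev (gA l i)).rank}
  have key : ∀ I, (T I).Finite := by
    intro I
    induction I using IsWellFounded.induction (fun a b : Ideal A => a > b) with
    | _ I ih =>
      by_cases hI : I.IsPrime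
      · let gI : Fin w → Fin r → MvPolynomial (Fin n) (A ⧸ I) := fun l i =>
          MvPolynomial.map (Ideal.Quotient.mk I) (gA l i)
        obtain ⟨f, hf, h, hh⟩ := exists_generic.{u} (A := A ⧸ I) (n := n) (r := r) (w := w) (D := D) gI (fun l i => (hgA l i).map _)
        obtain ⟨f, rfl⟩ := Ideal.Quotient.mk_surjective f
        rw [Ne, Ideal.Quotient.eq_zero_iff_mem] at hf
        refine ((ih (I ⊔ Ideal.span {f}) (lt_of_le_of_ne le_sup_left fun e =>
          hf (e ▸ Ideal.mem_sup_right (Ideal.subset_span rfl)))).insert h).subset ?_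
        rintro _ ⟨k, _, ev, hev, rfl⟩
        by_cases hfe : ev f = 0
        · exact Set.mem_insert_of_mem _
            ⟨k, inferInstance, ev, sup_le hev ((Ideal.span_singleton_le_iff_mem _).2 hfe), rfl⟩
        · refine Set.mem_insert_iff.2 (Or.inl (funext fun s => ?_))
          rw [← hh k (Ideal.Quotient.lift I ev fun a ha => hev ha) hfe s]
          simp only [gI, MvPolynomial.map_map]
          rfl
      · by_cases hI' : I = ⊤
        · refine Set.finite_empty.subset ?_
          rintro _ ⟨k, _, ev, hev, -⟩
          exact (RingHom.ker_ne_top ev (top_le_iff.1 (hI'.ge.trans hev))).elim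
        · rw [Ideal.isPrime_iff] at hI
          push Not at hI
          obtain ⟨a, b, hab, ha, hb⟩ := hI hI'
          refine ((ih (I ⊔ Ideal.span {a}) (lt_of_le_of_ne le_sup_left fun e =>
            ha (e ▸ Ideal.mem_sup_right (Ideal.subset_span rfl)))).union
            (ih (I ⊔ Ideal.span {b}) (lt_of_le_of_ne le_sup_left fun e =>
            hb (e ▸ Ideal.mem_sup_right (Ideal.subset_span rfl))))).subset ?_
          rintro _ ⟨k, _, ev, hev, rfl⟩
          have h0 : ev a * ev b = 0 := by rw [← map_mul]; exact hev hab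
          rcases mul_eq_zero.1 h0 with h | h
          · exact Or.inl ⟨k, inferInstance, ev, sup_le hev ((Ideal.span_singleton_le_iff_mem _).2 h), rfl⟩
          · exact Or.inr ⟨k, inferInstance, ev, sup_le hev ((Ideal.span_singleton_le_iff_mem _).2 h), rfl⟩
  refine (key ⊥).subset ?_
  rintro _ ⟨k, _, g, hg, rfl⟩
  refine ⟨k, inferInstance, MvPolynomial.eval₂Hom ((Int.castRingHom k).comp ULift.ringEquiv.toRingHom)
    (fun z : Z => coeff (expo z.down.2.2) (g z.down.1 z.down.2.1)), bot_le, ?_⟩
  funext s
  congr 1
  congr 1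
  funext l i
  rw [map_sum]
  simp only [map_monomial]
  refine Eq.trans ?_ (Finset.sum_congr rfl fun β _ => congrArg (monomial (expo β))
    (MvPolynomial.eval₂Hom_X' _ _ _).symm)
  exact ((homogeneousComponent_of_mem (m := D) (n := D) (hg l i)).trans (if_pos rfl)).symm.trans
    (homogeneousComponent_eq_sum D (g l i))

/-- The spaces of vectors of forms of degree `D` generate modules with finitely many Hilbert functions. -/
theorem finite_hilbW (n r D : ℕ) :
    {h : ℕ → ℕ | ∃ (k : Type u) (_ : Field k) (W : Submodule k (Fin r → MvPolynomial (Fin n) k)),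
      (∀ v ∈ W, ∀ i, (v i).IsHomogeneous D) ∧ h = hilbW W}.Finite := by
  classical
  refine (finite_rank_mulMat.{u} n r (r * Fintype.card (Mon n D)) D).subset ?_
  rintro _ ⟨k, _, W, hW, rfl⟩
  let L := (vec r D).comp W.subtype
  have hinj : Function.Injective L := (injective_iff_map_eq_zero L).2 fun v hv =>
    Subtype.ext ((vec_eq_zero_iff (hW v.1 v.2)).1 hv)
  haveI : Module.Finite k W := Module.Finite.of_injective L hinj
  have hle : Module.finrank k W ≤ r * Fintype.card (Mon n D) :=
    (LinearMap.finrank_le_finrank_of_injective hinj).trans_eq (by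
      rw [Module.finrank_pi, Fintype.card_prod, Fintype.card_fin])
  let b := Module.finBasis k W
  let g : Fin (r * Fintype.card (Mon n D)) → Fin r → MvPolynomial (Fin n) k := fun l =>
    if h : (l : ℕ) < Module.finrank k W then (b ⟨l, h⟩ : Fin r → MvPolynomial (Fin n) k) else 0
  have hg : ∀ l i, (g l i).IsHomogeneous D := by
    intro l i
    simp only [g]
    split
    · exact hW _ (b _).2 i
    · exact isHomogeneous_zero _ _ _
  have hspan : Submodule.span k (Set.range g) = W := by
    refine le_antisymm (Submodule.span_le.2 ?_) fun v hv => ?_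
    · rintro _ ⟨l, rfl⟩
      simp only [g]
      split
      · exact (b _).2
      · exact W.zero_mem
    · have h1 := congrArg Subtype.val (b.sum_repr ⟨v, hv⟩)
      simp only [Submodule.coe_sum, Submodule.coe_smul] at h1
      rw [← h1]
      refine Submodule.sum_mem _ fun i _ => Submodule.smul_mem _ _ ?_
      refine Submodule.subset_span ⟨⟨i, lt_of_lt_of_le i.2 hle⟩, ?_⟩
      simp [g]
  exact ⟨k, inferInstance, g, hg, funext fun s => by rw [← hilbW_span g hg s, hspan]⟩

end Groth.CohTwo.Bounded
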