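import Groth.Agent.CohTwo.Bounded.Denominator
import Groth.Agent.CohTwo.Bounded.FiniteHilbert

/-!
# A torsion free graded module inside a free module, in bounded degree
-/

universe u

open MvPolynomial Filter

noncomputable section

namespace Groth.CohTwo.Bounded

open Groth.CohTwo.GenDeg

variable {k : Type u} [Field k] {n : ℕ}

theorem taylor_top {Q : Polynomial ℚ} {d : ℕ} (hQ : Q.natDegree ≤ d + 1) (a : ℚ) :
    (Polynomial.taylor a Q).coeff (d + 1) = Q.coeff (d + 1) ∧
      (Polynomial.taylor a Q).coeff d = Q.coeff d + (d + 1) * a * Q.coeff (d + 1) := by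
  have key : ∀ m, d ≤ m → (Polynomial.taylor a Q).coeff m =
      Q.coeff m + ((m + 1 : ℕ) : ℚ) * a * Q.coeff (m + 1) := by
    intro m hm
    rw [Polynomial.taylor_coeff]
    have hdeg : (Polynomial.hasseDeriv m Q).natDegree < 2 :=
      (Polynomial.natDegree_hasseDeriv_le _ _).trans_lt (by omega)
    rw [Polynomial.eval_eq_sum_range' hdeg, Finset.sum_range_succ, Finset.sum_range_one,
      Polynomial.hasseDeriv_coeff, Polynomial.hasseDeriv_coeff, zero_add, Nat.choose_self,
      add_comm 1 m, Nat.choose_succ_self_right]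
    push_cast
    ring
  refine ⟨?_, ?_⟩
  · rw [key (d + 1) (by omega), Polynomial.coeff_eq_zero_of_natDegree_lt (n := d + 1 + 1) (by omega)]
    ring
  · rw [key d le_rfl]
    push_cast
    ring

theorem isHomogeneous_lin {m : ℕ} (c : Fin m → k) : (lin c : MvPolynomial (Fin m) k).IsHomogeneous 1 :=
  IsHomogeneous.sum _ _ _ fun l _ => by
    rw [smul_eq_C_mul]
    exact (isHomogeneous_X k l).C_mul _

variable {M : Type u} [AddCommGroup M] [Module k M] [Module (MvPolynomial (Fin n) k) M]
  [IsScalarTower k (MvPolynomial (Fin n) k) M] {V : ℕ → Submodule k M}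

set_option maxHeartbeats 1000000 in
/-- A torsion free graded module is, from degree `n r` on, generated by a space of vectors of forms of
degree `e + n r`; the rank `r` and the degree `e` are bounded by the top two coefficients. -/
theorem exists_embedding [Infinite k] (h : GenZero n V) (d : ℕ) (Q : Polynomial ℚ) (hQ : Q.natDegree ≤ d + 1)
    (hev : ∀ᶠ t in atTop, (Module.finrank k (V t) : ℚ) = Q.eval (t : ℚ))
    (c : Fin (d + 2) → Fin n → k) (B : ℕ)
    (hc : ∀ t, B ≤ t → V (t + 1) ≤ ⨆ i, (V t).map (mulBy (lin (c i))))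
    (hsf : ∀ f : MvPolynomial (Fin (d + 2)) k, f ≠ 0 → ∀ x : M, x ≠ 0 → subst c f • x ≠ 0) :
    ∃ (r e : ℕ) (W : Submodule k (Fin r → MvPolynomial (Fin (d + 2)) k)),
      (r : ℚ) = (d + 1).factorial * Q.coeff (d + 1) ∧ (e : ℚ) ≤ d.factorial * Q.coeff d + n * r * r ∧
      (∀ v ∈ W, ∀ i, (v i).IsHomogeneous (e + n * r)) ∧
      ∀ t, Module.finrank k (V (n * r + t)) = hilbW W t := by
  classical
  let S := MvPolynomial (Fin (d + 2)) k
  letI := Module.compHom M (subst c).toRingHom
  haveI : IsScalarTower k S M := IsScalarTower.of_algebraMap_smul fun a x => by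
    change subst c (algebraMap k _ a) • x = a • x
    rw [AlgHom.commutes, algebraMap_smul]
  haveI := h.finite_piece
  have hsmul : ∀ (s : S) (x : M), s • x = subst c s • x := fun _ _ => rfl
  obtain ⟨r, Γ, g, hdeg, hg, hspan, hind, hden⟩ := exists_short_gens h c B hc hsf
  choose! δ hδle hδ using hdeg
  obtain ⟨e, s0, hs0h, hs00, F, hF, hFhom, hFzero, hFprime⟩ := exists_denominator h c hsf Γ δ hδ g hg hden
  obtain ⟨π, -, hπ, -⟩ := h.exists_proj
  set D0 := n * r with hD0
  -- coordinates
  let Φ : (Fin r → S) →ₗ[S] M := Fintype.linearCombination S g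
  have hΦinj : Function.Injective Φ := (injective_iff_map_eq_zero Φ).2 fun f hf => hind f hf
  have hrange : ∀ x : M, s0 • x ∈ LinearMap.range Φ := by
    intro x
    obtain ⟨co, rfl⟩ := hspan x
    rw [Finset.smul_sum]
    refine Submodule.sum_mem _ fun γ hγ => ?_
    change s0 • co γ • γ ∈ _
    rw [smul_comm]
    exact Submodule.smul_mem _ _ ⟨F γ, (hF γ hγ).symm⟩
  let ψ0 : M →ₗ[S] (Fin r → S) := (LinearEquiv.ofInjective Φ hΦinj).symm.toLinearMap.comp
    ((LinearMap.lsmul S M s0).codRestrict _ hrange)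
  have hψ0 : ∀ x f, s0 • x = Φ f → ψ0 x = f := by
    intro x f hf
    change (LinearEquiv.ofInjective Φ hΦinj).symm _ = f
    rw [LinearEquiv.symm_apply_eq]
    exact Subtype.ext hf
  let ψ : M →ₗ[S] (Fin r → S) := LinearMap.pi fun i =>
    (LinearMap.mulRight S ((X 0 : S) ^ δ (g i))).comp ((LinearMap.proj i).comp ψ0)
  have hψi : ∀ x i, ψ x i = ψ0 x i * (X 0 : S) ^ δ (g i) := fun x i => rfl
  have hψinj : Function.Injective ψ := by
    refine (injective_iff_map_eq_zero ψ).2 fun x hx => ?_
    have h0 : ψ0 x = 0 := funext fun i => by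
      have h1 := congrFun hx i
      rw [hψi] at h1
      exact (mul_eq_zero.1 h1).resolve_right (pow_ne_zero _ (X_ne_zero 0))
    have h2 : s0 • x = 0 := by
      have := congrArg (fun z : LinearMap.range Φ => (z : M)) ((LinearEquiv.ofInjective Φ hΦinj).apply_symm_apply
        ⟨s0 • x, hrange x⟩)
      change Φ (ψ0 x) = s0 • x at this
      rw [← this, h0, map_zero]
    by_contra hx0
    exact hsf s0 hs00 x hx0 h2
  have hψγ : ∀ γ ∈ Γ, ∀ i, (ψ γ i).IsHomogeneous (e + δ γ) := by
    intro γ hγ i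
    rw [hψi, hψ0 γ (F γ) (hF γ hγ)]
    rcases Nat.lt_or_ge (e + δ γ) (δ (g i)) with hlt | hge
    · rw [hFzero γ hγ i hlt, zero_mul]
      exact isHomogeneous_zero _ _ _
    · have := (hFhom γ hγ i).mul (isHomogeneous_X_pow (R := k) (0 : Fin (d + 2)) (δ (g i)))
      rwa [Nat.sub_add_cancel hge] at this
  have hpiece : ∀ T, ∀ x ∈ V T, ∃ co : M → S, (∀ γ, (co γ).IsHomogeneous (T - δ γ)) ∧
      (∀ γ, T < δ γ → co γ = 0) ∧ ∑ γ ∈ Γ, co γ • γ = x := by
    intro T x hx
    obtain ⟨co, hco⟩ := hspan x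
    refine ⟨fun γ => if δ γ ≤ T then homogeneousComponent (T - δ γ) (co γ) else 0, fun γ => ?_,
      fun γ hlt => if_neg (by omega), ?_⟩
    · dsimp only
      split
      · exact homogeneousComponent_isHomogeneous _ _
      · exact isHomogeneous_zero _ _ _
    · have h1 := congrArg (π T) hco
      rw [hπ T T x hx, if_pos rfl, map_sum] at h1
      refine Eq.trans (Finset.sum_congr rfl fun γ hγ => ?_) h1
      dsimp only
      rw [proj_subst_smul h c π hπ (hδ γ hγ)]
      split
      · rfl
      · simp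
  have hψhom : ∀ T, ∀ x ∈ V T, ∀ i, (ψ x i).IsHomogeneous (e + T) := by
    intro T x hx i
    obtain ⟨co, hco, hco0, rfl⟩ := hpiece T x hx
    rw [map_sum, Finset.sum_apply]
    refine IsHomogeneous.sum _ _ _ fun γ hγ => ?_
    rw [map_smul, Pi.smul_apply, smul_eq_mul]
    rcases Nat.lt_or_ge T (δ γ) with hlt | hge
    · rw [hco0 γ hlt, zero_mul]
      exact isHomogeneous_zero _ _ _
    · have := (hco γ).mul (hψγ γ hγ i)
      rwa [show T - δ γ + (e + δ γ) = e + T by omega] at this
  -- the pieces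
  have hstep : ∀ T, D0 ≤ T → V (T + 1) ≤ ⨆ i, (V T).map (mulBy (lin (c i))) := by
    intro T hT x hx
    obtain ⟨co, hco, -, rfl⟩ := hpiece (T + 1) x hx
    refine Submodule.sum_mem _ fun γ hγ => ?_
    have hle := hδle γ hγ
    have hmem := homogeneous_succ_le (k := k) (m := d + 2) (T - δ γ)
      (show co γ ∈ homogeneousSubmodule (Fin (d + 2)) k (T - δ γ + 1) by
        have := hco γ
        rwa [show T + 1 - δ γ = T - δ γ + 1 by omega] at this)
    refine Submodule.iSup_induction _ (motive := fun q : S => q • γ ∈ ⨆ i, (V T).map (mulBy (lin (c i)))) hmem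
      (fun i q hq => ?_) (by rw [zero_smul]; exact zero_mem _) fun a b ha hb => by
        rw [add_smul]; exact add_mem ha hb
    obtain ⟨q, hq, rfl⟩ := hq
    refine Submodule.mem_iSup_of_mem i ⟨q • γ, ?_, ?_⟩
    · have := h.hom_smul_mem (hδ γ hγ) (isHomogeneous_aeval_lin c hq)
      rwa [show δ γ + (T - δ γ) = T by omega] at this
    · simp only [mulBy, Algebra.lsmul_coe, LinearMap.mulLeft_apply]
      rw [hsmul, hsmul, map_mul, mul_smul, aeval_X]
  let W : Submodule k (Fin r → S) := (V D0).map (ψ.restrictScalars k)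
  have hWspan : ∀ t, (V (D0 + t)).map (ψ.restrictScalars k) = Submodule.span k
      {z | ∃ p ∈ homogeneousSubmodule (Fin (d + 2)) k t, ∃ v ∈ W, z = p • v} := by
    intro t
    refine le_antisymm ?_ (Submodule.span_le.2 ?_)
    · induction t with
      | zero =>
        exact fun z hz => Submodule.subset_span ⟨1, isHomogeneous_one _ _, z, hz, (one_smul _ _).symm⟩
      | succ t ih =>
        refine (Submodule.map_mono (hstep (D0 + t) (Nat.le_add_right _ _))).trans ?_
        rw [Submodule.map_iSup]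
        refine iSup_le fun i => ?_
        rintro _ ⟨_, ⟨w, hw, rfl⟩, rfl⟩
        have hz := ih ⟨w, hw, rfl⟩
        change ψ (lin (c i) • w) ∈ _
        rw [show lin (c i) • w = (X i : S) • w from (by rw [hsmul (X i) w, aeval_X]), map_smul]
        have hX : Submodule.span k {z | ∃ p ∈ homogeneousSubmodule (Fin (d + 2)) k t, ∃ v ∈ W, z = p • v} ≤
            (Submodule.span k {z | ∃ p ∈ homogeneousSubmodule (Fin (d + 2)) k (t + 1), ∃ v ∈ W, z = p • v}).comap
              ((LinearMap.lsmul S (Fin r → S) (X i)).restrictScalars k) := by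
          refine Submodule.span_le.2 ?_
          rintro _ ⟨p, hp, v, hv, rfl⟩
          refine Submodule.subset_span ⟨X i * p, ?_, v, hv, smul_smul (X i : S) p v⟩
          have h1 : (X i * p : S).IsHomogeneous (1 + t) := (isHomogeneous_X k i).mul hp
          rwa [Nat.add_comm 1 t] at h1
        exact hX hz
    · rintro _ ⟨p, hp, _, ⟨w, hw, rfl⟩, rfl⟩
      exact ⟨p • w, h.hom_smul_mem hw (isHomogeneous_aeval_lin c hp), map_smul ψ p w⟩
  have hhilb : ∀ t, Module.finrank k (V (D0 + t)) = hilbW W t := by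
    intro t
    unfold hilbW
    rw [← hWspan t]
    exact (Submodule.equivMapOfInjective (ψ.restrictScalars k) hψinj _).finrank_eq
  -- upper bound
  haveI := fun i => (finrank_forms (k := k) d i).1
  have hupper : ∀ T, Module.finrank k (V T) ≤ r * (e + T + (d + 1)).choose (d + 1) := by
    intro T
    let μ : V T →ₗ[k] (Fin r → homogeneousSubmodule (Fin (d + 2)) k (e + T)) := LinearMap.pi fun i =>
      ((LinearMap.proj i).comp ((ψ.restrictScalars k).comp (V T).subtype)).codRestrict _ fun x =>
        hψhom T x.1 x.2 i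
    have hμ : Function.Injective μ := fun x y hxy => Subtype.ext (hψinj (funext fun i =>
      congrArg Subtype.val (congrFun hxy i)))
    refine (LinearMap.finrank_le_finrank_of_injective hμ).trans_eq ?_
    rw [Module.finrank_pi_fintype, Finset.sum_const, Finset.card_univ, Fintype.card_fin, (finrank_forms d _).2,
      smul_eq_mul]
  -- a special element
  let ι := (UniqueFactorizationMonoid.factors s0).toFinset
  have hι : ∀ p : ι, Prime p.1 ∧ p.1 ∣ s0 := fun p =>
    ⟨UniqueFactorizationMonoid.prime_of_factor _ (Multiset.mem_toFinset.1 p.2),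
      UniqueFactorizationMonoid.dvd_of_mem_factors (Multiset.mem_toFinset.1 p.2)⟩
  obtain ⟨cl, hcl⟩ := exists_lin_not_dvd d (fun p : ι => p.1) fun p => (hι p).1
  let ℓ : S := lin cl
  have hℓh : ∀ j, (ℓ ^ j).IsHomogeneous j := fun j => by
    have := (isHomogeneous_lin cl).pow j
    rwa [one_mul] at this
  let v : Γ → Fin r → S := fun γ i => ℓ ^ (D0 - δ γ.1) * F γ.1 i
  let Lc : (Γ → k) →ₗ[k] (Fin r → S) := Fintype.linearCombination k v
  obtain ⟨lam, hlam⟩ := Submodule.exists_forall_notMem_of_forall_ne_top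
    (fun p : ι => ⨅ i, ((Ideal.span {p.1}).restrictScalars k).comap ((LinearMap.proj i).comp Lc)) fun p htop => by
      obtain ⟨γ, hγ, i, hi⟩ := hFprime p.1 (hι p).1 (hι p).2
      have h1 := Submodule.mem_iInf _ |>.1 (htop ▸ Submodule.mem_top : Pi.single (⟨γ, hγ⟩ : Γ) (1 : k) ∈ _) i
      rw [Submodule.mem_comap, LinearMap.comp_apply] at h1
      simp only [Lc, LinearMap.proj_apply, Fintype.linearCombination_apply_single, one_smul] at h1
      have h2 : p.1 ∣ ℓ ^ (D0 - δ γ) * F γ i := Ideal.mem_span_singleton.1 h1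
      rcases (hι p).1.dvd_or_dvd h2 with hd | hd
      · exact hcl p ((hι p).1.dvd_of_dvd_pow hd)
      · exact hi hd
  let w : Γ → S := fun γ => lam γ • ℓ ^ (D0 - δ γ.1)
  let xs : M := ∑ γ : Γ, w γ • γ.1
  have hw : ∀ γ, (w γ).IsHomogeneous (D0 - δ γ.1) := fun γ =>
    (homogeneousSubmodule (Fin (d + 2)) k _).smul_mem _ (hℓh _)
  have hxsV : xs ∈ V D0 := Submodule.sum_mem _ fun γ _ => by
    have := h.hom_smul_mem (hδ γ.1 γ.2) (isHomogeneous_aeval_lin c (hw γ))
    rwa [show δ γ.1 + (D0 - δ γ.1) = D0 by have := hδle γ.1 γ.2; omega] at this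
  have hxs : s0 • xs = Φ (Lc lam) := by
    simp only [xs, Lc, Finset.smul_sum, Fintype.linearCombination_apply, map_sum]
    refine Finset.sum_congr rfl fun γ _ => ?_
    rw [smul_comm, show s0 • γ.1 = Φ (F γ.1) from hF γ.1 γ.2, ← map_smul]
    congr 1
    funext i
    simp [w, v]
  have hcop : ∀ p : S, Prime p → p ∣ s0 → ∃ i, ¬ p ∣ Lc lam i := by
    intro p hp hps
    obtain ⟨q, hq, hpq⟩ := UniqueFactorizationMonoid.exists_mem_factors_of_dvd hs00 hp.irreducible hps
    have := hlam ⟨q, Multiset.mem_toFinset.2 hq⟩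
    simp only [Submodule.mem_iInf, not_forall] at this
    obtain ⟨i, hi⟩ := this
    exact ⟨i, fun hd => hi (Ideal.mem_span_singleton.2 (hpq.symm.dvd.trans hd))⟩
  have hlower : ∀ t, e ≤ t → r * (t + (d + 1)).choose (d + 1) + e * (t - e + d).choose d ≤
      Module.finrank k (V (D0 + t)) := by
    intro t het
    let Dom := (∀ i : Fin r, homogeneousSubmodule (Fin (d + 2)) k (D0 + t - δ (g i))) ×
      homogeneousSubmodule (Fin (d + 2)) k t
    let Ψ : Dom →ₗ[k] M :=
      ((Φ.restrictScalars k).comp (LinearMap.pi fun i => (Submodule.subtype _).comp (LinearMap.proj i))).comp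
        (LinearMap.fst k _ _) +
      (((LinearMap.toSpanSingleton S M xs).restrictScalars k).comp (Submodule.subtype _)).comp (LinearMap.snd k _ _)
    have hΨ : ∀ z : Dom, Ψ z = Φ (fun i => (z.1 i).1) + z.2.1 • xs := fun z => rfl
    have hΨV : ∀ z, Ψ z ∈ V (D0 + t) := by
      intro z
      rw [hΨ, Fintype.linearCombination_apply]
      refine add_mem (Submodule.sum_mem _ fun i _ => ?_) (h.hom_smul_mem hxsV (isHomogeneous_aeval_lin c z.2.2))
      have := h.hom_smul_mem (hδ _ (hg i)) (isHomogeneous_aeval_lin c (z.1 i).2)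
      rwa [show δ (g i) + (D0 + t - δ (g i)) = D0 + t by have := hδle _ (hg i); omega] at this
    let Z : Submodule k S := (homogeneousSubmodule (Fin (d + 2)) k (t - e)).map (LinearMap.mulLeft k s0)
    let pr : LinearMap.ker Ψ →ₗ[k] S :=
      ((Submodule.subtype _).comp (LinearMap.snd k _ _)).comp (LinearMap.ker Ψ).subtype
    have hker : ∀ z : LinearMap.ker Ψ, ∀ i, pr z * Lc lam i = s0 * (-(z.1.1 i).1) := by
      intro z i
      have h0 : s0 • (Φ (fun i => (z.1.1 i).1) + z.1.2.1 • xs) = 0 := by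
        rw [← hΨ, LinearMap.mem_ker.1 z.2, smul_zero]
      rw [smul_add, smul_comm s0 z.1.2.1, hxs, ← map_smul, ← map_smul, ← map_add] at h0
      have h1 := congrFun (hΦinj (h0.trans (map_zero Φ).symm)) i
      simp only [Pi.add_apply, Pi.smul_apply, Pi.zero_apply, smul_eq_mul] at h1
      change z.1.2.1 * Lc lam i = _
      linear_combination h1
    have hprZ : LinearMap.range pr ≤ Z := by
      rintro _ ⟨z, rfl⟩
      rcases eq_or_ne (pr z) 0 with h0 | h0
      · rw [h0]; exact zero_mem _
      obtain ⟨q, hq⟩ := dvd_of_forall_prime s0 hs00 (Lc lam) hcop (pr z) (fun i => -(z.1.1 i).1) (hker z)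
      exact ⟨q, (quot_isHomogeneous hs0h z.1.2.2 h0 hq.symm).2, hq.symm⟩
    have hprinj : Function.Injective pr := by
      intro z z' hzz
      have hsnd : z.1.2 = z'.1.2 := Subtype.ext hzz
      refine Subtype.ext (Prod.ext (_root_.funext fun i => Subtype.ext ?_) hsnd)
      have h1 := hker z i
      rw [show pr z = pr z' from hzz, hker z' i] at h1
      exact neg_injective (mul_left_cancel₀ hs00 h1.symm)
    have h1 := Ψ.finrank_range_add_finrank_ker
    have h2 : Module.finrank k (LinearMap.range Ψ) ≤ Module.finrank k (V (D0 + t)) :=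
      Submodule.finrank_mono (by rintro _ ⟨z, rfl⟩; exact hΨV z)
    have h3 : Module.finrank k (LinearMap.ker Ψ) ≤ (t - e + (d + 1)).choose (d + 1) := by
      rw [← LinearMap.finrank_range_of_inj hprinj]
      refine (Submodule.finrank_mono hprZ).trans ((Submodule.finrank_map_le _ _).trans_eq (finrank_forms d _).2)
    have h4 : r * (t + (d + 1)).choose (d + 1) + (t + (d + 1)).choose (d + 1) ≤ Module.finrank k Dom := by
      rw [Module.finrank_prod, Module.finrank_pi_fintype, (finrank_forms d t).2]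
      refine Nat.add_le_add_right ?_ _
      refine le_trans ?_ (Finset.card_nsmul_le_sum Finset.univ _ ((t + (d + 1)).choose (d + 1)) fun i _ => ?_)
      · rw [Finset.card_univ, Fintype.card_fin, smul_eq_mul]
      · rw [(finrank_forms d _).2]
        have := hδle _ (hg i)
        exact Nat.choose_le_choose _ (by omega)
    have h5 := choose_add_mul_le d e (t - e)
    rw [show t - e + e + (d + 1) = t + (d + 1) by omega] at h5
    omega
  -- the coefficients
  let R := Polynomial.taylor (D0 : ℚ) Q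
  have hR : R.natDegree ≤ d + 1 := (Polynomial.natDegree_taylor Q _).trans_le hQ
  have hevR : ∀ᶠ t : ℕ in atTop, (Module.finrank k (V (D0 + t)) : ℚ) = R.eval (t : ℚ) := by
    obtain ⟨B₂, hB₂⟩ := eventually_atTop.1 hev
    refine eventually_atTop.2 ⟨B₂, fun t ht => ?_⟩
    rw [hB₂ (D0 + t) (by omega), Polynomial.taylor_eval]
    push_cast
    rw [add_comm]
  obtain ⟨hl1, hl2⟩ := lead_of_bounds (a := r) (b := r) (c := e + D0 + (d + 1)) hR (by
    filter_upwards [hevR, eventually_ge_atTop e] with t ht het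
    rw [← ht]
    constructor
    · refine le_trans ?_ (Nat.cast_le.2 (le_trans (Nat.le_add_right _ _) (hlower t het)))
      rw [Nat.cast_mul]
      exact mul_le_mul_of_nonneg_left (pow_div_le_choose t (d + 1)) (Nat.cast_nonneg r)
    · refine (Nat.cast_le.2 (hupper (D0 + t))).trans ?_
      rw [Nat.cast_mul]
      refine mul_le_mul_of_nonneg_left ((choose_le_pow_div (e + (D0 + t)) (d + 1)).trans_eq ?_) (Nat.cast_nonneg r)
      push_cast
      ring)
  have hr : (r : ℚ) = (d + 1).factorial * R.coeff (d + 1) := le_antisymm hl1 hl2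
  have he := second_of_bound (e := e) hR hr (by
    filter_upwards [hevR, eventually_ge_atTop e] with t ht het
    rw [← ht]
    refine le_trans ?_ (Nat.cast_le.2 (hlower t het))
    rw [Nat.cast_add, Nat.cast_mul, Nat.cast_mul]
    refine add_le_add (mul_le_mul_of_nonneg_left (pow_div_le_choose t (d + 1)) (Nat.cast_nonneg r)) ?_
    refine mul_le_mul_of_nonneg_left ?_ (Nat.cast_nonneg e)
    rw [← Nat.cast_sub het]
    exact pow_div_le_choose (t - e) d)
  obtain ⟨ht1, ht2⟩ := taylor_top hQ (D0 : ℚ)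
  rw [ht1] at hr
  refine ⟨r, e, W, hr, ?_, ?_, hhilb⟩
  · refine he.trans_eq ?_
    rw [ht2, mul_add]
    congr 1
    have hD0' : (D0 : ℚ) = n * r := by rw [hD0]; push_cast; ring
    rw [hr, Nat.factorial_succ] at hD0' ⊢
    rw [hD0']
    push_cast
    ring
  · rintro _ ⟨x, hx, rfl⟩ i
    exact hψhom D0 x hx i

end Groth.CohTwo.Bounded
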