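import Groth.Agent.CohTwo.GenDegBound

/-!
# Graded modules generated in degree zero: components and Noether forms
-/

universe u

open MvPolynomial Filter

noncomputable section

namespace Groth.CohTwo.GenDeg

variable {k : Type u} [Field k] {n : ℕ}
variable {M : Type u} [AddCommGroup M] [Module k M] [Module (MvPolynomial (Fin n) k) M]
  [IsScalarTower k (MvPolynomial (Fin n) k) M] {V : ℕ → Submodule k M}

theorem GenZero.monomial_smul_mem (h : GenZero n V) {t : ℕ} {v : M} (hv : v ∈ V t) (a : Fin n →₀ ℕ) :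
    (monomial a (1 : k)) • v ∈ V (t + a.degree) := by
  induction a using Finsupp.induction generalizing v t with
  | zero => simpa using hv
  | single_add i b a hia hb ih =>
    rw [show monomial (Finsupp.single i b + a) (1 : k) = X i ^ b * monomial a 1 by
      rw [X_pow_eq_monomial, monomial_mul, one_mul], mul_smul, map_add, Finsupp.degree_single]
    have h1 := h.X_pow_mem i b (ih hv)
    rwa [add_assoc, add_comm a.degree b] at h1

theorem GenZero.hom_smul_mem (h : GenZero n V) {t s : ℕ} {v : M} (hv : v ∈ V t) {p : MvPolynomial (Fin n) k}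
    (hp : p.IsHomogeneous s) : p • v ∈ V (t + s) := by
  rw [p.as_sum, Finset.sum_smul]
  refine Submodule.sum_mem _ fun a ha => ?_
  rw [show monomial a (coeff a p) = coeff a p • monomial a (1 : k) by rw [smul_monomial, smul_eq_mul, mul_one],
    smul_assoc]
  refine Submodule.smul_mem _ _ ?_
  have hd : a.degree = s := by
    rw [Finsupp.degree_eq_weight_one]
    exact hp (mem_support_iff.1 ha)
  exact hd ▸ h.monomial_smul_mem hv a

/-- The component maps of the grading. -/
theorem GenZero.exists_proj (h : GenZero n V) :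
    ∃ π : ℕ → M →ₗ[k] M, (∀ t x, π t x ∈ V t) ∧
      (∀ s t, ∀ x ∈ V s, π t x = if s = t then x else 0) ∧
      ∀ x : M, ∃ F : Finset ℕ, (∀ t ∉ F, π t x = 0) ∧ ∑ t ∈ F, π t x = x := by
  classical
  have hint := DirectSum.isInternal_submodule_of_iSupIndep_of_iSup_eq_top h.ind h.top
  let e := (LinearEquiv.ofBijective (DirectSum.coeLinearMap V) hint).symm
  let π : ℕ → M →ₗ[k] M := fun t => (V t).subtype ∘ₗ DirectSum.component k ℕ (fun t => V t) t ∘ₗ e.toLinearMap
  have hcomp : ∀ s t, ∀ x ∈ V s, π t x = if s = t then x else 0 := by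
    intro s t x hx
    have he : e x = DirectSum.lof k ℕ (fun t => V t) s ⟨x, hx⟩ := by
      rw [LinearEquiv.symm_apply_eq]
      exact (DirectSum.coeLinearMap_lof V s ⟨x, hx⟩).symm
    change ((DirectSum.component k ℕ (fun t => V t) t (e x) : V t) : M) = _
    rw [he, DirectSum.component.of]
    split
    · next hst => subst hst; rfl
    · rfl
  refine ⟨π, fun t x => (DirectSum.component k ℕ (fun t => V t) t (e x)).2, hcomp, fun x => ?_⟩
  have hx : x ∈ ⨆ t, V t := by rw [h.top]; trivial
  obtain ⟨F, hF, hFx⟩ := (Submodule.mem_iSup_iff_exists_finsupp _ _).1 hx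
  have hπ : ∀ t, π t x = F t := by
    intro t
    rw [← hFx, Finsupp.sum, map_sum, Finset.sum_eq_single t]
    · rw [hcomp t t _ (hF t), if_pos rfl]
    · intro s _ hst
      rw [hcomp s t _ (hF s), if_neg hst]
    · intro ht
      rw [Finsupp.notMem_support_iff.1 ht, map_zero]
  refine ⟨F.support, fun t ht => by rw [hπ, Finsupp.notMem_support_iff.1 ht], ?_⟩
  rw [Finset.sum_congr rfl fun t _ => hπ t]
  exact hFx

/-- Killing one general linear form lowers the degree; after enough steps nothing is left. -/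
theorem exists_forms [Infinite k] : ∀ (e : ℕ) (M : Type u) [AddCommGroup M] [Module k M]
    [Module (MvPolynomial (Fin n) k) M] [IsScalarTower k (MvPolynomial (Fin n) k) M]
    (V : ℕ → Submodule k M), GenZero n V → ∀ Q : Polynomial ℚ, (∀ j, e ≤ j → Q.coeff j = 0) →
    (∀ᶠ t in atTop, (Module.finrank k (V t) : ℚ) = Q.eval (t : ℚ)) →
    ∃ (c : Fin e → Fin n → k) (B : ℕ), ∀ t, B ≤ t → V (t + 1) ≤ ⨆ i, (V t).map (mulBy (lin (c i))) := by
  intro e
  induction e with
  | zero =>
    intro M _ _ _ _ V h Q hQ hev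
    obtain ⟨B, hB⟩ := eventually_atTop.1 hev
    refine ⟨Fin.elim0, B, fun t ht => ?_⟩
    haveI := h.finite_piece (t + 1)
    have h0 : Module.finrank k (V (t + 1)) = 0 := by
      have := hB (t + 1) (by omega)
      rw [show Q = 0 from Polynomial.ext fun j => by rw [hQ j (Nat.zero_le j), Polynomial.coeff_zero],
        Polynomial.eval_zero] at this
      exact_mod_cast this
    rw [Submodule.finrank_eq_zero.1 h0]
    exact bot_le
  | succ e ih =>
    intro M _ _ _ _ V h Q hQ hev
    haveI := h.finite_module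
    obtain ⟨c₀, hc₀⟩ := exists_regular_lin (k := k) (n := n) (M := M)
    obtain ⟨B₁, hB₁⟩ := h.exists_tors_bound
    let ℓ : M →ₗ[MvPolynomial (Fin n) k] M := LinearMap.lsmul _ _ (lin c₀)
    let N := LinearMap.range ℓ
    have hN : N.restrictScalars k ≤ ⨆ t, V t ⊓ N.restrictScalars k := by
      rintro _ ⟨y, rfl⟩
      have hy : y ∈ ⨆ t, V t := by rw [h.top]; trivial
      refine Submodule.iSup_induction _
        (motive := fun y => ℓ y ∈ ⨆ t, V t ⊓ N.restrictScalars k) hy (fun t y hy => ?_)
        (by rw [map_zero]; exact zero_mem _) fun a b ha hb => by rw [map_add]; exact add_mem ha hb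
      exact Submodule.mem_iSup_of_mem (t + 1) ⟨h.lin_mem hy c₀, y, rfl⟩
    have h' := h.quotient N hN
    haveI := h.finite_piece
    -- the pieces of the quotient
    obtain ⟨π, hπmem, hπ, hπsum⟩ := h.exists_proj
    have hπℓ : ∀ t x, π (t + 1) (ℓ x) = ℓ (π t x) := by
      intro t x
      obtain ⟨F, hF0, hF⟩ := hπsum x
      conv_lhs => rw [← hF]
      rw [map_sum, map_sum, Finset.sum_eq_single t]
      · exact (hπ (t + 1) (t + 1) _ (h.lin_mem (hπmem t x) c₀)).trans (if_pos rfl)
      · intro s _ hst
        exact (hπ (s + 1) (t + 1) _ (h.lin_mem (hπmem s x) c₀)).trans (if_neg (by omega))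
      · intro ht
        rw [hF0 t ht, map_zero, map_zero]
    have hdim : ∀ t, B₁ ≤ t → Module.finrank k ((V (t + 1)).map (N.mkQ.restrictScalars k)) +
        Module.finrank k (V t) = Module.finrank k (V (t + 1)) := by
      intro t ht
      let f := ((N.mkQ.restrictScalars k).domRestrict (V (t + 1)))
      let g : V t →ₗ[k] V (t + 1) := (mulBy (lin c₀)).restrict fun x hx => h.lin_mem hx c₀
      have hg : Function.Injective g := by
        refine (injective_iff_map_eq_zero g).2 fun x hx => Subtype.ext ?_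
        have hx0 : lin c₀ • (x : M) = 0 := congrArg Subtype.val hx
        have hxT := hc₀ _ (by rw [hx0]; exact zero_mem _)
        exact (Submodule.mem_bot k).1 ((hB₁ t ht).le ⟨x.2, hxT⟩)
      have hker : LinearMap.ker f = LinearMap.range g := by
        ext x
        constructor
        · intro hx
          obtain ⟨y, hy⟩ := (Submodule.Quotient.mk_eq_zero N).1 hx
          refine ⟨⟨π t y, hπmem t y⟩, Subtype.ext ?_⟩
          change ℓ (π t y) = x.1
          rw [← hπℓ, hy]
          exact (hπ (t + 1) (t + 1) _ x.2).trans (if_pos rfl)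
        · rintro ⟨y, rfl⟩
          exact (Submodule.Quotient.mk_eq_zero N).2 ⟨y.1, rfl⟩
      have h1 := f.finrank_range_add_finrank_ker
      rw [hker, LinearMap.finrank_range_of_inj hg, LinearMap.range_domRestrict] at h1
      exact h1
    have hQd : Q.natDegree ≤ e := Polynomial.natDegree_le_iff_coeff_eq_zero.2 fun j hj => hQ j hj
    obtain ⟨c, B, hB⟩ := ih (M ⧸ N) _ h' (Q - Polynomial.taylor (-1) Q) (fun j hj => by
      rcases e with _ | e
      · rw [Polynomial.eq_C_of_natDegree_le_zero hQd]
        simp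
      · exact Polynomial.coeff_eq_zero_of_natDegree_lt (lt_of_le_of_lt (coeff_sub_taylor Q e hQd).1 hj))
      (by
        obtain ⟨B₂, hB₂⟩ := eventually_atTop.1 hev
        refine eventually_atTop.2 ⟨max B₁ B₂ + 1, fun t ht => ?_⟩
        obtain ⟨t, rfl⟩ := Nat.exists_eq_add_of_le' (show 1 ≤ t by omega)
        have h1 := hB₂ t (by omega)
        have h2 := hB₂ (t + 1) (by omega)
        have h3 := congrArg (fun x : ℕ => (x : ℚ)) (hdim t (by omega))
        simp only [Nat.cast_add] at h3
        rw [h1, h2] at h3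
        rw [Polynomial.eval_sub, Polynomial.taylor_eval]
        push_cast at h3 ⊢
        rw [add_neg_cancel_right]
        linarith)
    refine ⟨Fin.cons c₀ c, max B B₁, fun t ht x hx => ?_⟩
    have hxq := hB t (le_trans (le_max_left _ _) ht) ⟨x, hx, rfl⟩
    have hle : (⨆ i, ((V t).map (N.mkQ.restrictScalars k)).map (mulBy (lin (c i)))) ≤
        (⨆ i, (V t).map (mulBy (lin (c i)))).map (N.mkQ.restrictScalars k) := by
      rw [Submodule.map_iSup]
      refine iSup_mono fun i => ?_
      rw [← Submodule.map_comp, ← Submodule.map_comp]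
      rintro _ ⟨z, hz, rfl⟩
      exact ⟨z, hz, rfl⟩
    obtain ⟨z, hz, hzx⟩ := hle hxq
    obtain ⟨y, hy⟩ : x - z ∈ N := (Submodule.Quotient.eq N).1 hzx.symm
    have hzV : z ∈ V (t + 1) := (iSup_le fun i => by
      rintro _ ⟨w, hw, rfl⟩
      exact h.lin_mem hw (c i) : _ ≤ V (t + 1)) hz
    have hx' : x = ℓ (π t y) + z := by
      rw [← hπℓ, hy, hπ (t + 1) (t + 1) _ (sub_mem hx hzV), if_pos rfl, sub_add_cancel]
    rw [hx']
    refine add_mem (Submodule.mem_iSup_of_mem 0 ⟨π t y, hπmem t y, by simp [ℓ]⟩) ?_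
    refine (iSup_le fun i => ?_ : _ ≤ ⨆ i, (V t).map (mulBy (lin ((Fin.cons c₀ c : Fin (e + 1) → _) i)))) hz
    exact le_iSup_of_le i.succ (by simp)

end Groth.CohTwo.GenDeg
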