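import Groth.Agent.CohTwo.Bounded.TorsionFree

/-!
# Generators of small degree of a graded module, torsion free over general forms
-/

universe u

open MvPolynomial TensorProduct

noncomputable section

namespace Groth.CohTwo.Bounded

open Groth.CohTwo.GenDeg
open scoped nonZeroDivisors

variable {k : Type u} [Field k] {n m : ℕ}

/-- An endomorphism of a finite torsion free module over an integrally closed domain satisfies a monic
equation of degree the generic rank. -/
theorem exists_monic_rank {S : Type u} [CommRing S] [IsDomain S] [IsIntegrallyClosed S] {M : Type u}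
    [AddCommGroup M] [Module S M] [Module.Finite S M]
    (hinj : Function.Injective (TensorProduct.mk S (FractionRing S) M 1)) (T : Module.End S M) :
    ∃ co : Fin (Module.finrank (FractionRing S) (FractionRing S ⊗[S] M)) → S, ∀ x : M,
      (T ^ Module.finrank (FractionRing S) (FractionRing S ⊗[S] M)) x = ∑ j, co j • (T ^ (j : ℕ)) x := by
  classical
  let K := FractionRing S
  let r := Module.finrank K (K ⊗[S] M)
  let TK : Module.End K (K ⊗[S] M) := Module.End.baseChangeHom S K M T
  obtain ⟨p, hp, hpT⟩ := LinearMap.exists_monic_and_aeval_eq_zero S T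
  have hbc : ∀ q : Polynomial S,
      Polynomial.aeval TK (q.map (algebraMap S K)) = Module.End.baseChangeHom S K M (Polynomial.aeval T q) := by
    intro q
    rw [Polynomial.aeval_map_algebraMap, Polynomial.aeval_algHom_apply]
  have hdvd : minpoly K TK ∣ p.map (algebraMap S K) := minpoly.dvd _ _ (by rw [hbc, hpT, map_zero])
  obtain ⟨g, hg⟩ := IsIntegrallyClosed.eq_map_mul_C_of_dvd K hp hdvd
  have hint : IsIntegral K TK := LinearMap.isIntegral TK
  rw [(minpoly.monic hint).leadingCoeff, map_one, mul_one] at hg
  have hgm : g.Monic := Polynomial.monic_of_injective (IsFractionRing.injective S K)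
    (by rw [hg]; exact minpoly.monic hint)
  have hgdeg : g.natDegree ≤ r := by
    rw [← Polynomial.natDegree_map_eq_of_injective (IsFractionRing.injective S K) g, hg]
    exact (Polynomial.natDegree_le_of_dvd (LinearMap.minpoly_dvd_charpoly TK)
      (LinearMap.charpoly_monic TK).ne_zero).trans_eq (LinearMap.charpoly_natDegree TK)
  let q : Polynomial S := g * Polynomial.X ^ (r - g.natDegree)
  have hqm : q.Monic := hgm.mul (Polynomial.monic_X_pow _)
  have hqd : q.natDegree = r := by
    rw [hgm.natDegree_mul (Polynomial.monic_X_pow _), Polynomial.natDegree_X_pow, Nat.add_sub_cancel' hgdeg]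
  have hq : Polynomial.aeval T q = 0 := by
    refine LinearMap.ext fun x => hinj ?_
    have h1 : Module.End.baseChangeHom S K M (Polynomial.aeval T q) = 0 := by
      rw [← hbc, Polynomial.map_mul, hg, map_mul]
      exact mul_eq_zero_of_left (minpoly.aeval K TK) _
    have h2 := LinearMap.congr_fun h1 ((1 : K) ⊗ₜ[S] x)
    change ((Polynomial.aeval T q).baseChange K) ((1 : K) ⊗ₜ[S] x) = 0 at h2
    rw [LinearMap.baseChange_tmul] at h2
    simpa using h2
  refine ⟨fun j => -q.coeff j, fun x => ?_⟩
  have h := LinearMap.congr_fun hq x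
  rw [Polynomial.aeval_eq_sum_range' (show q.natDegree < r + 1 by omega), LinearMap.sum_apply,
    Finset.sum_range_succ, ← hqd, hqm.coeff_natDegree, hqd] at h
  simp only [LinearMap.smul_apply, one_smul, LinearMap.zero_apply] at h
  rw [← Fin.sum_univ_eq_sum_range (fun j => q.coeff j • (T ^ j) x) r] at h
  rw [eq_neg_of_add_eq_zero_right h, ← Finset.sum_neg_distrib]
  exact Finset.sum_congr rfl fun j _ => (neg_smul _ _).symm

/-- Every monomial times the generators of degree zero is in a submodule closed under high powers. -/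
theorem span_monomial_eq_top {S : Type u} [CommRing S] {M : Type u} [AddCommGroup M] [Module k M]
    [Module (MvPolynomial (Fin n) k) M] [IsScalarTower k (MvPolynomial (Fin n) k) M]
    [Module S M] [SMulCommClass (MvPolynomial (Fin n) k) S M] [Algebra k S] [IsScalarTower k S M]
    {V : ℕ → Submodule k M} (h : GenZero n V) (s0 : Finset M) (hs0 : Submodule.span k (s0 : Set M) = V 0)
    (r : ℕ) (co : Fin n → Fin r → S)
    (hco : ∀ (l : Fin n) (x : M), (X l : MvPolynomial (Fin n) k) ^ r • x =
      ∑ j, co l j • (X l : MvPolynomial (Fin n) k) ^ (j : ℕ) • x) :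
    Submodule.span S (Set.range fun q : (Fin n → Fin r) × s0 =>
      monomial (Finsupp.equivFunOnFinite.symm fun l => (q.1 l : ℕ)) (1 : k) • q.2.1) = ⊤ := by
  classical
  set N := Submodule.span S (Set.range fun q : (Fin n → Fin r) × s0 =>
    monomial (Finsupp.equivFunOnFinite.symm fun l => (q.1 l : ℕ)) (1 : k) • q.2.1)
  have key : ∀ (D : ℕ) (a : Fin n →₀ ℕ), a.degree = D → ∀ b ∈ s0,
      (monomial a (1 : k) : MvPolynomial (Fin n) k) • b ∈ N := by
    intro D
    induction D using Nat.strong_induction_on with
    | _ D ih =>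
      intro a ha b hb
      by_cases hall : ∀ l, a l < r
      · refine Submodule.subset_span ⟨(fun l => ⟨a l, hall l⟩, ⟨b, hb⟩), ?_⟩
        change monomial _ (1 : k) • b = monomial a 1 • b
        rw [show (Finsupp.equivFunOnFinite.symm fun l => a l) = a from Finsupp.equivFunOnFinite.symm_apply_apply a]
      push Not at hall
      obtain ⟨l, hl⟩ := hall
      obtain ⟨a', rfl⟩ : ∃ a', a = a' + Finsupp.single l r := ⟨a - Finsupp.single l r,
        (tsub_add_cancel_of_le (Finsupp.single_le_iff.2 hl)).symm⟩
      have hmono : ∀ j : ℕ, (monomial (a' + Finsupp.single l j) (1 : k) : MvPolynomial (Fin n) k) • b =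
          (X l : MvPolynomial (Fin n) k) ^ j • (monomial a' (1 : k) : MvPolynomial (Fin n) k) • b := fun j => by
        rw [smul_smul, X_pow_eq_monomial, monomial_mul, one_mul, add_comm]
      rw [hmono, hco]
      refine Submodule.sum_mem _ fun j _ => N.smul_mem _ ?_
      rw [← hmono]
      rw [map_add, Finsupp.degree_single] at ha
      exact ih (a'.degree + j) (by omega) _ (by rw [map_add, Finsupp.degree_single]) b hb
  have hall : ∀ t, ∀ x ∈ V t, ∀ a : Fin n →₀ ℕ, (monomial a (1 : k) : MvPolynomial (Fin n) k) • x ∈ N := by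
    intro t
    induction t with
    | zero =>
      intro x hx a
      rw [← hs0] at hx
      induction hx using Submodule.span_induction with
      | mem b hb => exact key _ a rfl b hb
      | zero => rw [smul_zero]; exact N.zero_mem
      | add x y _ _ hx hy => rw [smul_add]; exact N.add_mem hx hy
      | smul e x _ hx => rw [smul_comm, ← algebraMap_smul S e]; exact N.smul_mem _ hx
    | succ t ih =>
      intro x hx
      rw [h.step t] at hx
      refine Submodule.iSup_induction _
        (motive := fun x => ∀ a : Fin n →₀ ℕ, (monomial a (1 : k) : MvPolynomial (Fin n) k) • x ∈ N) hx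
        (fun i x hx a => ?_) (fun a => by rw [smul_zero]; exact N.zero_mem)
        fun x y hx hy a => by rw [smul_add]; exact N.add_mem (hx a) (hy a)
      obtain ⟨w, hw, rfl⟩ := hx
      change monomial a (1 : k) • (X i : MvPolynomial (Fin n) k) • w ∈ N
      have := ih w hw (a + Finsupp.single i 1)
      rw [smul_smul]
      rwa [monomial_add_single, pow_one] at this
  refine top_unique fun x _ => ?_
  have hx : x ∈ ⨆ t, V t := by rw [h.top]; trivial
  refine Submodule.iSup_induction _ (motive := fun x => x ∈ N) hx (fun t x hx => ?_) N.zero_mem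
    fun x y hx hy => N.add_mem hx hy
  have := hall t x hx 0
  rwa [monomial_zero', C_1, one_smul] at this

variable {M : Type u} [AddCommGroup M] [Module k M] [Module (MvPolynomial (Fin n) k) M]
  [IsScalarTower k (MvPolynomial (Fin n) k) M] {V : ℕ → Submodule k M}

/-- Generators of degree at most `n r`, among them an independent family of `r` with a full span. -/
theorem exists_short_gens (h : GenZero n V) (c : Fin m → Fin n → k) (B : ℕ)
    (hc : ∀ t, B ≤ t → V (t + 1) ≤ ⨆ i, (V t).map (mulBy (lin (c i))))
    (hsf : ∀ f : MvPolynomial (Fin m) k, f ≠ 0 → ∀ x : M, x ≠ 0 → subst c f • x ≠ 0) :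
    ∃ (r : ℕ) (Γ : Finset M) (g : Fin r → M),
      (∀ γ ∈ Γ, ∃ δ ≤ n * r, γ ∈ V δ) ∧ (∀ i, g i ∈ Γ) ∧
      (∀ x : M, ∃ co : M → MvPolynomial (Fin m) k, ∑ γ ∈ Γ, subst c (co γ) • γ = x) ∧
      (∀ f : Fin r → MvPolynomial (Fin m) k, ∑ i, subst c (f i) • g i = 0 → f = 0) ∧
      (∀ γ ∈ Γ, ∃ s : MvPolynomial (Fin m) k, s ≠ 0 ∧ ∃ f : Fin r → MvPolynomial (Fin m) k,
        subst c s • γ = ∑ i, subst c (f i) • g i) := by
  classical
  let S := MvPolynomial (Fin m) k
  let K := FractionRing S
  letI := Module.compHom M (subst c).toRingHom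
  haveI : IsScalarTower k S M := IsScalarTower.of_algebraMap_smul fun a x => by
    change subst c (algebraMap k _ a) • x = a • x
    rw [AlgHom.commutes, algebraMap_smul]
  haveI : SMulCommClass (MvPolynomial (Fin n) k) S M := ⟨fun p s x => by
    change p • subst c s • x = subst c s • p • x
    rw [smul_comm]⟩
  haveI : SMulCommClass S (MvPolynomial (Fin n) k) M := SMulCommClass.symm _ _ _
  haveI : Module.Finite S M := exists_finite_gens h c B hc
  let ψ : M →ₗ[S] K ⊗[S] M := TensorProduct.mk S K M 1
  have hinj : Function.Injective ψ := (injective_iff_map_eq_zero ψ).2 fun x hx => by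
    obtain ⟨a, ha⟩ := (IsLocalizedModule.eq_zero_iff S⁰ ψ).1 hx
    by_contra hx0
    exact hsf a.1 (nonZeroDivisors.coe_ne_zero a) x hx0 ha
  let r := Module.finrank K (K ⊗[S] M)
  have hX : ∀ l : Fin n, ∃ co : Fin r → S, ∀ x : M, (X l : MvPolynomial (Fin n) k) ^ r • x =
      ∑ j, co j • (X l : MvPolynomial (Fin n) k) ^ (j : ℕ) • x := by
    intro l
    let T : Module.End S M :=
      { toFun := fun x => (X l : MvPolynomial (Fin n) k) • x
        map_add' := fun x y => smul_add _ _ _
        map_smul' := fun s x => (smul_comm _ _ _) }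
    have hT : ∀ (j : ℕ) (x : M), (T ^ j) x = (X l : MvPolynomial (Fin n) k) ^ j • x := by
      intro j
      induction j with
      | zero => intro x; simp
      | succ j ihj =>
        intro x
        rw [pow_succ', pow_succ', Module.End.mul_apply, ihj, mul_smul]
        rfl
    obtain ⟨co, hco⟩ := exists_monic_rank hinj T
    exact ⟨co, fun x => by rw [← hT, hco]; simp only [hT]; rfl⟩
  choose co hco using hX
  obtain ⟨s0, hs0⟩ := h.fg
  let mon : (Fin n → Fin r) × s0 → M := fun q =>
    monomial (Finsupp.equivFunOnFinite.symm fun l => (q.1 l : ℕ)) (1 : k) • q.2.1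
  let Γ := Finset.univ.image mon
  have htop : Submodule.span S (Γ : Set M) = ⊤ := by
    rw [Finset.coe_image, Finset.coe_univ, Set.image_univ]
    exact span_monomial_eq_top h s0 hs0 r co hco
  have hKtop : Submodule.span K (ψ '' (Γ : Set M)) = ⊤ := by
    refine top_unique fun z _ => ?_
    induction z using TensorProduct.induction_on with
    | zero => exact zero_mem _
    | add a b ha hb => exact add_mem (ha trivial) (hb trivial)
    | tmul a x =>
      have hx : x ∈ Submodule.span S (Γ : Set M) := htop ▸ trivial
      rw [show a ⊗ₜ[S] x = a • ψ x by simp [ψ, TensorProduct.smul_tmul']]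
      refine Submodule.smul_mem _ _ ?_
      have := Submodule.apply_mem_span_image_of_mem_span ψ hx
      exact Submodule.span_subset_span S K _ this
  obtain ⟨v, hvΓ, hvspan, hvli⟩ := Submodule.exists_fun_fin_finrank_span_eq K (ψ '' (Γ : Set M))
  have hr : Module.finrank K (Submodule.span K (ψ '' (Γ : Set M))) = r := by rw [hKtop, finrank_top]
  let v' : Fin r → K ⊗[S] M := fun i => v (Fin.cast hr.symm i)
  have hvli' : LinearIndependent K v' := hvli.comp _ (Fin.cast_injective _)
  have hvspan' : Submodule.span K (Set.range v') = ⊤ := by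
    rw [← hKtop, ← hvspan, show Set.range v' = Set.range v from
      ((finCongr hr.symm).surjective : Function.Surjective (Fin.cast hr.symm)).range_comp v]
  choose g hgΓ hgv using fun i : Fin r => hvΓ (Fin.cast hr.symm i)
  have hsum : ∀ f : Fin r → S, ψ (∑ i, f i • g i) = ∑ i, algebraMap S K (f i) • v' i := fun f => by
    rw [map_sum]
    exact Finset.sum_congr rfl fun i _ => by rw [map_smul, hgv, algebraMap_smul]
  refine ⟨r, Γ, g, fun γ hγ => ?_, hgΓ, fun x => ?_, fun f hf => ?_, fun γ hγ => ?_⟩
  · obtain ⟨q, -, rfl⟩ := Finset.mem_image.1 hγ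
    refine ⟨(Finsupp.equivFunOnFinite.symm fun l => (q.1 l : ℕ)).degree, ?_, ?_⟩
    · rw [Finsupp.degree_eq_sum]
      exact (Finset.sum_le_sum (g := fun _ => r) fun l _ => (q.1 l).2.le).trans_eq (by simp)
    · have hb : q.2.1 ∈ V 0 := hs0 ▸ Submodule.subset_span q.2.2
      simpa using h.monomial_smul_mem hb (Finsupp.equivFunOnFinite.symm fun l => (q.1 l : ℕ))
  · obtain ⟨co', -, hco'⟩ :=
      Submodule.mem_span_finset.1 (show x ∈ Submodule.span S (Γ : Set M) from htop ▸ trivial)
    exact ⟨co', hco'⟩
  · have h0 := (Fintype.linearIndependent_iff.1 hvli') (fun i => algebraMap S K (f i))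
      (by rw [← hsum]; exact (congrArg ψ hf).trans (map_zero ψ))
    funext i
    exact IsFractionRing.injective S K ((h0 i).trans (map_zero _).symm)
  · obtain ⟨cf, hcf⟩ := (Submodule.mem_span_range_iff_exists_fun K).1
      (show ψ γ ∈ Submodule.span K (Set.range v') from hvspan' ▸ trivial)
    obtain ⟨s, hs⟩ := IsLocalization.exist_integer_multiples S⁰ (Finset.univ : Finset (Fin r)) cf
    choose f hf using fun i : Fin r => hs i (Finset.mem_univ i)
    refine ⟨s.1, nonZeroDivisors.coe_ne_zero s, f, hinj ?_⟩
    change ψ (s.1 • γ) = ψ (∑ i, f i • g i)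
    rw [hsum, map_smul, ← hcf, Finset.smul_sum]
    refine Finset.sum_congr rfl fun i _ => ?_
    rw [hf i, smul_assoc]

end Groth.CohTwo.Bounded
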