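import Groth.Agent.PropsBasic.HopfGraded
import Groth.Agent.CohTwo.GenDegBound
import Groth.Agent.CohTwo.Bounded.Coeff

/-!
# Counting forms, and comparing polynomial bounds
-/

universe u

open MvPolynomial Filter

noncomputable section

namespace Groth.CohTwo.Bounded

variable {k : Type u} [Field k]

/-- The number of forms of degree `j` in `d + 2` variables. -/
theorem finrank_forms (d j : ℕ) : Module.Finite k (homogeneousSubmodule (Fin (d + 2)) k j) ∧
    Module.finrank k (homogeneousSubmodule (Fin (d + 2)) k j) = (j + (d + 1)).choose (d + 1) := by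
  have h := Groth.HopfGraded.finrank_homogeneous (k := k) (d + 2) j
  refine ⟨h.1, h.2.trans ?_⟩
  rw [show d + 2 + j - 1 = j + (d + 1) by omega, ← Nat.choose_symm (show j ≤ j + (d + 1) by omega),
    show j + (d + 1) - j = d + 1 by omega]

/-- The growth of the number of forms. -/
theorem choose_le_add (d a : ℕ) : ∀ m : ℕ,
    (m + (d + 1)).choose (d + 1) ≤
      (if a ≤ m then (m - a + (d + 1)).choose (d + 1) else 0) + a * (m + (d + 1)).choose d := by
  induction a with
  | zero => intro m; simp
  | succ a ih =>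
    intro m
    refine (ih m).trans ?_
    have key : (if a ≤ m then (m - a + (d + 1)).choose (d + 1) else 0) ≤
        (if a + 1 ≤ m then (m - (a + 1) + (d + 1)).choose (d + 1) else 0) + (m + (d + 1)).choose d := by
      rcases lt_trichotomy a m with h | h | h
      · rw [if_pos h.le, if_pos (by omega : a + 1 ≤ m),
          show m - a + (d + 1) = (m - (a + 1) + (d + 1)) + 1 by omega, Nat.choose_succ_succ', add_comm]
        exact Nat.add_le_add_left (Nat.choose_le_choose d (by omega)) _
      · subst h
        rw [if_pos le_rfl, if_neg (by omega), Nat.sub_self, zero_add, zero_add, Nat.choose_self]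
        exact Nat.choose_pos (by omega)
      · rw [if_neg (by omega), if_neg (by omega)]
        exact Nat.zero_le _
    rw [Nat.succ_mul]
    omega

theorem choose_le_pow (d m : ℕ) : (m + (d + 1)).choose d ≤ (d + 2) ^ d * (m + 1) ^ d := by
  refine (Nat.choose_le_pow _ _).trans ?_
  rw [← Nat.mul_pow]
  exact Nat.pow_le_pow_left (by nlinarith) d

theorem pow_div_le_choose (t d : ℕ) : ((t : ℚ) ^ d) / d.factorial ≤ ((t + d).choose d : ℕ) := by
  rw [div_le_iff₀ (by exact_mod_cast d.factorial_pos)]
  have h : t ^ d ≤ d.factorial * (t + d).choose d := by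
    rw [← Nat.descFactorial_eq_factorial_mul_choose]
    exact le_trans (Nat.pow_le_pow_left (by omega) d) (Nat.pow_sub_le_descFactorial (t + d) d)
  rw [mul_comm]
  exact_mod_cast h

theorem choose_le_pow_div (t d : ℕ) : (((t + d).choose d : ℕ) : ℚ) ≤ ((t : ℚ) + d) ^ d / d.factorial := by
  rw [le_div_iff₀ (by exact_mod_cast d.factorial_pos), mul_comm]
  have h : d.factorial * (t + d).choose d ≤ (t + d) ^ d := by
    rw [← Nat.descFactorial_eq_factorial_mul_choose]
    exact Nat.descFactorial_le_pow _ _
  exact_mod_cast h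

/-- Nonnegative leading coefficient of an eventually nonnegative polynomial. -/
theorem coeff_nonneg {P : Polynomial ℚ} {m : ℕ} (hP : P.natDegree ≤ m)
    (h : ∀ᶠ t : ℕ in atTop, 0 ≤ P.eval (t : ℚ)) : 0 ≤ P.coeff m := by
  rcases hP.eq_or_lt with heq | hlt
  · rw [← heq, Polynomial.coeff_natDegree]
    by_contra hneg
    push Not at hneg
    rcases le_or_gt P.degree 0 with hdeg | hdeg
    · obtain ⟨B, hB⟩ := eventually_atTop.1 h
      have := hB B le_rfl
      rw [Polynomial.eq_C_of_degree_le_zero hdeg] at this hneg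
      rw [Polynomial.eval_C] at this
      rw [Polynomial.leadingCoeff_C] at hneg
      linarith
    · have ht := (P.tendsto_atBot_of_leadingCoeff_nonpos hdeg hneg.le).comp
        (tendsto_natCast_atTop_atTop (R := ℚ))
      obtain ⟨t, ht1, ht2⟩ := ((ht.eventually_le_atBot (-1)).and h).exists
      simp only [Function.comp_apply] at ht1
      linarith
  · rw [Polynomial.coeff_eq_zero_of_natDegree_lt hlt]

/-- Bounds on the values bound the top coefficient. -/
theorem lead_of_bounds {R : Polynomial ℚ} {d a b c : ℕ} (hR : R.natDegree ≤ d + 1)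
    (h : ∀ᶠ t : ℕ in atTop, (a : ℚ) * ((t : ℚ) ^ (d + 1) / (d + 1).factorial) ≤ R.eval (t : ℚ) ∧
      R.eval (t : ℚ) ≤ (b : ℚ) * (((t : ℚ) + c) ^ (d + 1) / (d + 1).factorial)) :
    (a : ℚ) ≤ (d + 1).factorial * R.coeff (d + 1) ∧ (d + 1).factorial * R.coeff (d + 1) ≤ (b : ℚ) := by
  have hf : (0 : ℚ) < (d + 1).factorial := by exact_mod_cast (d + 1).factorial_pos
  let A : Polynomial ℚ := R - Polynomial.C ((a : ℚ) / (d + 1).factorial) * Polynomial.X ^ (d + 1)
  let B : Polynomial ℚ :=
    Polynomial.C ((b : ℚ) / (d + 1).factorial) * (Polynomial.X + Polynomial.C (c : ℚ)) ^ (d + 1) - R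
  have hA := coeff_nonneg (P := A) (m := d + 1)
    ((Polynomial.natDegree_sub_le _ _).trans (max_le hR ((Polynomial.natDegree_C_mul_le _ _).trans
      (Polynomial.natDegree_X_pow_le _))))
    (h.mono fun t ht => by
      simp only [A, Polynomial.eval_sub, Polynomial.eval_mul, Polynomial.eval_C, Polynomial.eval_pow,
        Polynomial.eval_X]
      rw [div_mul_eq_mul_div]
      have := ht.1
      rw [mul_div_assoc'] at this
      linarith)
  have hB := coeff_nonneg (P := B) (m := d + 1)
    ((Polynomial.natDegree_sub_le _ _).trans (max_le ((Polynomial.natDegree_C_mul_le _ _).trans (by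
      rw [Polynomial.natDegree_pow, Polynomial.natDegree_X_add_C, mul_one])) hR))
    (h.mono fun t ht => by
      simp only [B, Polynomial.eval_sub, Polynomial.eval_mul, Polynomial.eval_C, Polynomial.eval_pow,
        Polynomial.eval_add, Polynomial.eval_X]
      rw [div_mul_eq_mul_div]
      have := ht.2
      rw [mul_div_assoc'] at this
      linarith)
  have hlead : ((Polynomial.X + Polynomial.C (c : ℚ)) ^ (d + 1)).coeff (d + 1) = 1 := by
    have := ((Polynomial.monic_X_add_C (c : ℚ)).pow (d + 1))
    rwa [Polynomial.Monic, Polynomial.leadingCoeff, Polynomial.natDegree_pow, Polynomial.natDegree_X_add_C,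
      mul_one] at this
  simp only [A, B, Polynomial.coeff_sub, Polynomial.coeff_C_mul, Polynomial.coeff_X_pow_self, hlead, mul_one]
    at hA hB
  rw [sub_nonneg, div_le_iff₀ hf] at hA
  rw [sub_nonneg, le_div_iff₀ hf] at hB
  exact ⟨by linarith, by linarith⟩

/-- A lower bound on the values bounds the second coefficient from below. -/
theorem second_of_bound {R : Polynomial ℚ} {d r e : ℕ} (hR : R.natDegree ≤ d + 1)
    (hr : (r : ℚ) = (d + 1).factorial * R.coeff (d + 1))
    (h : ∀ᶠ t : ℕ in atTop, (r : ℚ) * ((t : ℚ) ^ (d + 1) / (d + 1).factorial) +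
      (e : ℚ) * (((t : ℚ) - e) ^ d / d.factorial) ≤ R.eval (t : ℚ)) :
    (e : ℚ) ≤ d.factorial * R.coeff d := by
  have hf : (0 : ℚ) < d.factorial := by exact_mod_cast d.factorial_pos
  have hf' : (0 : ℚ) < (d + 1).factorial := by exact_mod_cast (d + 1).factorial_pos
  let W : Polynomial ℚ := R - Polynomial.C (R.coeff (d + 1)) * Polynomial.X ^ (d + 1) -
    Polynomial.C ((e : ℚ) / d.factorial) * (Polynomial.X - Polynomial.C (e : ℚ)) ^ d
  have hmon : ((Polynomial.X - Polynomial.C (e : ℚ)) ^ d).natDegree = d := by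
    rw [Polynomial.natDegree_pow, Polynomial.natDegree_X_sub_C, mul_one]
  have hW : W.natDegree ≤ d := by
    refine (Polynomial.natDegree_sub_le _ _).trans (max_le ?_
      ((Polynomial.natDegree_C_mul_le _ _).trans hmon.le))
    refine Polynomial.natDegree_le_iff_coeff_eq_zero.2 fun m hm => ?_
    rw [Polynomial.coeff_sub, Polynomial.coeff_C_mul, Polynomial.coeff_X_pow]
    split_ifs with hmd
    · subst hmd; ring
    · rw [Polynomial.coeff_eq_zero_of_natDegree_lt (by omega)]; ring
  have h1 : ((Polynomial.X - Polynomial.C (e : ℚ)) ^ d).coeff d = 1 := by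
    have := (Polynomial.monic_X_sub_C (e : ℚ)).pow d
    rwa [Polynomial.Monic, Polynomial.leadingCoeff, hmon] at this
  have hnn := coeff_nonneg hW (h.mono fun t ht => by
    simp only [W, Polynomial.eval_sub, Polynomial.eval_mul, Polynomial.eval_C, Polynomial.eval_pow,
      Polynomial.eval_X]
    have h3 : R.coeff (d + 1) * (t : ℚ) ^ (d + 1) = (r : ℚ) * ((t : ℚ) ^ (d + 1) / (d + 1).factorial) := by
      rw [hr]; field_simp
    have h4 : (e : ℚ) / d.factorial * ((t : ℚ) - e) ^ d = (e : ℚ) * (((t : ℚ) - e) ^ d / d.factorial) := by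
      ring
    linarith)
  simp only [W, Polynomial.coeff_sub, Polynomial.coeff_C_mul, Polynomial.coeff_X_pow, h1,
    if_neg (show d ≠ d + 1 by omega)] at hnn
  have h5 : (e : ℚ) / d.factorial ≤ R.coeff d := by linarith
  rw [div_le_iff₀ hf] at h5
  linarith

/-- Forms in linear forms are forms. -/
theorem isHomogeneous_aeval_lin {m n : ℕ} (c : Fin m → Fin n → k) {p : MvPolynomial (Fin m) k} {s : ℕ}
    (hp : p.IsHomogeneous s) :
    (aeval (fun i => Groth.CohTwo.GenDeg.lin (c i)) p : MvPolynomial (Fin n) k).IsHomogeneous s := by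
  have h := hp.aeval (fun i => (Groth.CohTwo.GenDeg.lin (c i) : MvPolynomial (Fin n) k)) (n := 1) fun i => ?_
  · rwa [one_mul] at h
  · refine IsHomogeneous.sum _ _ _ fun l _ => ?_
    rw [smul_eq_C_mul]
    exact (isHomogeneous_X k l).C_mul _

end Groth.CohTwo.Bounded
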