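import Groth.Agent.CohTwo.Bounded.Graded
import Groth.Agent.CohTwo.Bounded.PolyRing

/-!
# A pure graded module is torsion free over general forms
-/

universe u

open MvPolynomial Filter

noncomputable section

namespace Groth.CohTwo.Bounded

open Groth.CohTwo.GenDeg

variable {k : Type u} [Field k] {n m : ℕ}

/-- Substitute linear forms. -/
abbrev subst (c : Fin m → Fin n → k) : MvPolynomial (Fin m) k →ₐ[k] MvPolynomial (Fin n) k :=
  aeval fun i => lin (c i)

variable {M : Type u} [AddCommGroup M] [Module k M] [Module (MvPolynomial (Fin n) k) M]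
  [IsScalarTower k (MvPolynomial (Fin n) k) M] {V : ℕ → Submodule k M}

/-- The multiples of an element by forms of a fixed degree. -/
def orbit (n : ℕ) (k : Type u) [Field k] {M : Type u} [AddCommGroup M] [Module k M]
    [Module (MvPolynomial (Fin n) k) M] [IsScalarTower k (MvPolynomial (Fin n) k) M] (x : M) (j : ℕ) :
    Submodule k M :=
  (homogeneousSubmodule (Fin n) k j).map
    ((LinearMap.toSpanSingleton (MvPolynomial (Fin n) k) M x).restrictScalars k)

theorem mem_orbit {x z : M} {j : ℕ} : z ∈ orbit n k x j ↔
    ∃ p : MvPolynomial (Fin n) k, p.IsHomogeneous j ∧ p • x = z := by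
  simp [orbit, Submodule.mem_map]

theorem proj_subst_smul (h : GenZero n V) (c : Fin m → Fin n → k) (π : ℕ → M →ₗ[k] M)
    (hπ : ∀ s t, ∀ x ∈ V s, π t x = if s = t then x else 0) {τ : ℕ} {g : M} (hg : g ∈ V τ) (T : ℕ)
    (f : MvPolynomial (Fin m) k) :
    π T (subst c f • g) = if τ ≤ T then subst c (homogeneousComponent (T - τ) f) • g else 0 := by
  classical
  have hterm : ∀ s, π T (subst c (homogeneousComponent s f) • g) =
      if τ + s = T then subst c (homogeneousComponent s f) • g else 0 := fun s =>
    hπ _ _ _ (h.hom_smul_mem hg (isHomogeneous_aeval_lin c (homogeneousComponent_isHomogeneous s f)))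
  conv_lhs => rw [← sum_homogeneousComponent f, map_sum, Finset.sum_smul, map_sum]
  rw [Finset.sum_congr rfl fun s _ => hterm s]
  split
  · next hle =>
    rw [Finset.sum_eq_single (T - τ)]
    · rw [if_pos (by omega)]
    · intro s _ hs
      rw [if_neg (by omega)]
    · intro hs
      rw [if_pos (by omega), homogeneousComponent_eq_zero _ _ (by
        rw [Finset.mem_range] at hs; omega)]
      simp
  · next hle =>
    exact Finset.sum_eq_zero fun s _ => if_neg (by omega)

/-- Finitely many homogeneous elements generate over the forms. -/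
theorem exists_finite_gens (h : GenZero n V) (c : Fin m → Fin n → k) (B : ℕ)
    (hc : ∀ t, B ≤ t → V (t + 1) ≤ ⨆ i, (V t).map (mulBy (lin (c i)))) :
    letI := Module.compHom M (subst c).toRingHom
    Module.Finite (MvPolynomial (Fin m) k) M := by
  letI := Module.compHom M (subst c).toRingHom
  haveI : IsScalarTower k (MvPolynomial (Fin m) k) M := IsScalarTower.of_algebraMap_smul fun a x => by
    change subst c (algebraMap k _ a) • x = a • x
    rw [AlgHom.commutes, algebraMap_smul]
  classical
  let U : Submodule k M := ⨆ t : Fin (B + 1), V t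
  obtain ⟨s, hs⟩ : U.FG := Submodule.fg_iSup _ fun t => h.fg_all t
  let N : Submodule (MvPolynomial (Fin m) k) M := Submodule.span _ (s : Set M)
  have hU : ∀ t ≤ B, V t ≤ N.restrictScalars k := fun t ht =>
    le_trans (le_iSup (fun t : Fin (B + 1) => V t) ⟨t, by omega⟩)
      (hs.ge.trans (Submodule.span_le.2 fun x hx => Submodule.subset_span hx))
  have hall : ∀ t, V t ≤ N.restrictScalars k := by
    intro t
    induction t with
    | zero => exact hU 0 (Nat.zero_le B)
    | succ t ih =>
      rcases Nat.lt_or_ge t B with ht | ht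
      · exact hU (t + 1) ht
      · refine (hc t ht).trans (iSup_le fun i => ?_)
        rintro _ ⟨w, hw, rfl⟩
        have h1 := N.smul_mem (X i : MvPolynomial (Fin m) k) (ih hw)
        have h2 : (X i : MvPolynomial (Fin m) k) • w = lin (c i) • w := by
          change subst c (X i) • w = _
          rw [aeval_X]
        change lin (c i) • w ∈ _
        rw [← h2]
        exact h1
  refine ⟨⟨s, top_unique fun x _ => ?_⟩⟩
  have hx : x ∈ ⨆ t, V t := by rw [h.top]; trivial
  exact iSup_le hall hx

/-- Purity gives torsion freeness over the forms. -/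
theorem subst_smul_ne_zero (h : GenZero n V) (d : ℕ) (c : Fin (d + 2) → Fin n → k) (B : ℕ)
    (hc : ∀ t, B ≤ t → V (t + 1) ≤ ⨆ i, (V t).map (mulBy (lin (c i))))
    (hpure : ∀ t, ∀ x ∈ V t, x ≠ 0 →
      ¬ ∃ C : ℕ, ∀ j, Module.finrank k (orbit n k x j) ≤ C * (j + 1) ^ d)
    (f : MvPolynomial (Fin (d + 2)) k) (hf : f ≠ 0) (x : M) (hx : x ≠ 0) : subst c f • x ≠ 0 := by
  classical
  letI := Module.compHom M (subst c).toRingHom
  haveI : IsScalarTower k (MvPolynomial (Fin (d + 2)) k) M := IsScalarTower.of_algebraMap_smul fun a x => by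
    change subst c (algebraMap k _ a) • x = a • x
    rw [AlgHom.commutes, algebraMap_smul]
  haveI : Module.Finite (MvPolynomial (Fin (d + 2)) k) M := exists_finite_gens h c B hc
  haveI : IsNoetherian (MvPolynomial (Fin (d + 2)) k) M := isNoetherian_of_isNoetherianRing_of_finite _ _
  obtain ⟨π, hπmem, hπ, hπsum⟩ := h.exists_proj
  -- homogeneous elements
  have hhom : ∀ (a : ℕ) (s : MvPolynomial (Fin (d + 2)) k), s.IsHomogeneous a → s ≠ 0 →
      ∀ b, ∀ x ∈ V b, subst c s • x = 0 → x = 0 := by
    intro a s hs hs0 b x hxb hsx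
    by_contra hx0
    refine hpure b x hxb hx0 ?_
    let O : Set M := ⋃ j, (orbit n k x j : Set M)
    obtain ⟨G, hG, hGO⟩ := (Submodule.fg_span_iff_fg_span_finset_subset O).1
      (IsNoetherian.noetherian (Submodule.span (MvPolynomial (Fin (d + 2)) k) O))
    choose δ hδ using fun g : G => Set.mem_iUnion.1 (hG g.2)
    have hgV : ∀ g : G, g.1 ∈ V (b + δ g) := fun g => by
      obtain ⟨p, hp, hpg⟩ := mem_orbit.1 (hδ g)
      exact hpg ▸ h.hom_smul_mem hxb hp
    have hgs : ∀ g : G, subst c s • g.1 = 0 := fun g => by
      obtain ⟨p, -, hpg⟩ := mem_orbit.1 (hδ g)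
      rw [← hpg, smul_comm, hsx, smul_zero]
    refine ⟨G.card * (a * (d + 2) ^ d), fun j => ?_⟩
    let L : ∀ g : G, homogeneousSubmodule (Fin (d + 2)) k (j - δ g) →ₗ[k] M := fun g =>
      ((LinearMap.toSpanSingleton (MvPolynomial (Fin (d + 2)) k) M g.1).restrictScalars k).comp
        (homogeneousSubmodule (Fin (d + 2)) k (j - δ g)).subtype
    have hle : orbit n k x j ≤ ⨆ g, LinearMap.range (L g) := by
      intro z hz
      have hzV : z ∈ V (b + j) := by
        obtain ⟨p, hp, rfl⟩ := mem_orbit.1 hz
        exact h.hom_smul_mem hxb hp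
      have hzN : z ∈ Submodule.span (MvPolynomial (Fin (d + 2)) k) (G : Set M) :=
        hGO ▸ Submodule.subset_span (Set.mem_iUnion.2 ⟨j, hz⟩)
      obtain ⟨co, -, hco⟩ := Submodule.mem_span_finset.1 hzN
      have h1 : z = π (b + j) z := by rw [hπ _ _ _ hzV, if_pos rfl]
      rw [h1, ← hco, map_sum, ← Finset.sum_coe_sort G]
      refine Submodule.sum_mem _ fun g _ => ?_
      change π (b + j) (subst c (co g.1) • g.1) ∈ _
      rw [proj_subst_smul h c π hπ (hgV g)]
      split
      · next hle' =>
        refine Submodule.mem_iSup_of_mem g ⟨⟨homogeneousComponent (j - δ g) (co g.1),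
          homogeneousComponent_isHomogeneous _ _⟩, ?_⟩
        change subst c (homogeneousComponent (j - δ g) (co g.1)) • g.1 = _
        rw [show b + j - (b + δ g) = j - δ g by omega]
      · exact zero_mem _
    have hL : ∀ g, Module.finrank k (LinearMap.range (L g)) ≤ a * (d + 2) ^ d * (j + 1) ^ d := by
      intro g
      haveI := fun i => (finrank_forms (k := k) d i).1
      have h1 := (L g).finrank_range_add_finrank_ker
      have hm := (finrank_forms (k := k) d (j - δ g)).2
      have hker : (if a ≤ j - δ g then (j - δ g - a + (d + 1)).choose (d + 1) else 0) ≤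
          Module.finrank k (LinearMap.ker (L g)) := by
        split
        · next ha =>
          rw [← (finrank_forms (k := k) d (j - δ g - a)).2]
          let μ : homogeneousSubmodule (Fin (d + 2)) k (j - δ g - a) →ₗ[k] LinearMap.ker (L g) :=
            { toFun := fun p => ⟨⟨s * p.1, by
                have := hs.mul p.2
                rwa [Nat.add_sub_cancel' ha] at this⟩, by
                change subst c (s * p.1) • g.1 = 0
                rw [map_mul, mul_comm, mul_smul, hgs, smul_zero]⟩
              map_add' := fun p q => Subtype.ext (Subtype.ext (mul_add _ _ _))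
              map_smul' := fun r p => Subtype.ext (Subtype.ext (mul_smul_comm _ _ _)) }
          refine LinearMap.finrank_le_finrank_of_injective (f := μ) fun p q hpq => Subtype.ext ?_
          exact mul_left_cancel₀ hs0 (congrArg (fun z => z.1.1) hpq)
        · exact Nat.zero_le _
      have h2 := choose_le_add d a (j - δ g)
      have h3 : a * (j - δ g + (d + 1)).choose d ≤ a * (d + 2) ^ d * (j + 1) ^ d := by
        rw [mul_assoc]
        refine Nat.mul_le_mul_left _ ((choose_le_pow d _).trans (Nat.mul_le_mul_left _ ?_))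
        exact Nat.pow_le_pow_left (by omega) d
      rw [hm] at h1
      omega
    haveI := fun i => (finrank_forms (k := k) d i).1
    have hsup : ∀ F : Finset G, Module.Finite k ↥(⨆ g ∈ F, LinearMap.range (L g)) ∧
        Module.finrank k ↥(⨆ g ∈ F, LinearMap.range (L g)) ≤ F.card * (a * (d + 2) ^ d * (j + 1) ^ d) := by
      intro F
      induction F using Finset.induction with
      | empty =>
        have hb : (⨆ g ∈ (∅ : Finset G), LinearMap.range (L g)) = ⊥ := by simp
        rw [hb]
        exact ⟨inferInstance, by simp⟩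
      | insert g F hg ih =>
        haveI := ih.1
        rw [Finset.iSup_insert, Finset.card_insert_of_notMem hg]
        refine ⟨inferInstance, (Submodule.finrank_add_le_finrank_add_finrank _ _).trans ?_⟩
        have := hL g
        have := ih.2
        rw [Nat.succ_mul]
        omega
    have htot := hsup Finset.univ
    haveI := htot.1
    have hle' : orbit n k x j ≤ ⨆ g ∈ (Finset.univ : Finset G), LinearMap.range (L g) := by simpa using hle
    refine (Submodule.finrank_mono hle').trans (htot.2.trans ?_)
    rw [Finset.card_univ, Fintype.card_coe, mul_assoc, mul_assoc, mul_assoc]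
  -- the general case through the top components
  intro hfx
  obtain ⟨F, hF0, hFx⟩ := hπsum x
  obtain ⟨t₀, -, ht₀⟩ : ∃ t ∈ F, π t x ≠ 0 := by
    by_contra hcon
    push Not at hcon
    exact hx (hFx ▸ Finset.sum_eq_zero hcon)
  let Fb := F.filter fun t => π t x ≠ 0
  have hFb : Fb.Nonempty := ⟨t₀, Finset.mem_filter.2 ⟨by_contra fun ht => ht₀ (hF0 t₀ ht), ht₀⟩⟩
  let b := Fb.max' hFb
  let Fa := (Finset.range (f.totalDegree + 1)).filter fun i => homogeneousComponent i f ≠ 0
  have hFa : Fa.Nonempty := by
    by_contra hcon
    rw [Finset.not_nonempty_iff_eq_empty, Finset.filter_eq_empty_iff] at hcon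
    exact hf (by rw [← sum_homogeneousComponent f, Finset.sum_eq_zero fun i hi => not_not.1 (hcon hi)])
  let a := Fa.max' hFa
  have hb : π b x ≠ 0 := (Finset.mem_filter.1 (Fb.max'_mem hFb)).2
  have ha : homogeneousComponent a f ≠ 0 := (Finset.mem_filter.1 (Fa.max'_mem hFa)).2
  have h1 : π (a + b) (subst c f • x) = subst c (homogeneousComponent a f) • π b x := by
    conv_lhs => rw [← hFx, Finset.smul_sum, map_sum]
    rw [Finset.sum_congr rfl fun t _ => proj_subst_smul h c π hπ (hπmem t x) (a + b) f, Finset.sum_eq_single b]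
    · rw [if_pos (by omega), Nat.add_sub_cancel]
    · intro t ht htb
      split
      · next hle =>
        rcases eq_or_ne (π t x) 0 with h0 | h0
        · rw [h0, smul_zero]
        have htlt : t < b := lt_of_le_of_ne (Fb.le_max' t (Finset.mem_filter.2 ⟨ht, h0⟩)) htb
        have hz : homogeneousComponent (a + b - t) f = 0 := by
          by_contra hne
          rcases Nat.lt_or_ge f.totalDegree (a + b - t) with hlt | hge
          · exact hne (homogeneousComponent_eq_zero _ _ hlt)
          · have := Fa.le_max' (a + b - t) (Finset.mem_filter.2 ⟨Finset.mem_range.2 (by omega), hne⟩)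
            omega
        rw [hz, map_zero, zero_smul]
      · rfl
    · intro hb'
      exact absurd (hF0 b hb') hb
  rw [hfx, map_zero] at h1
  exact hb (hhom a _ (homogeneousComponent_isHomogeneous a f) ha b _ (hπmem b x) h1.symm)

end Groth.CohTwo.Bounded
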